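import Mathlib
import Cfsg.Agent.Lib.CoprimeStab
import Cfsg.Agent.Transfer.FrobeniusFusion
import Cfsg.Agent.H794.SmallFix

/-!
# Small elements in the hypercentre (helper29)

`hasNormalPComplement_of_small`: if for every `p`-subgroup `D` and every `p'`-element `g` normalizing
`D` the elements of `D` of order dividing `p` (dividing 4 for `p = 2`) commute with `g`, then there is
a normal `p`-complement. `commute_of_upperCentralSeries`: `p`-elements of the hypercentre commute with
`p'`-elements.
-/

set_option autoImplicit false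

namespace Cfsg.Agent.H29.Hyper

open Cfsg
open scoped commutatorElement

/-- `p`-elements in the hypercentre commute with `p'`-elements. -/
theorem commute_of_upperCentralSeries {G : Type*} [Group G] {p : ℕ} [hp : Fact p.Prime]
    {D : Subgroup G} [Finite D] (hD : IsPGroup p D) {g : G}
    (hg : g ∈ Subgroup.normalizer (D : Set G))
    (hgp : (orderOf g).Coprime p) (n : ℕ) {x : G} (hx : x ∈ D)
    (hxn : x ∈ Subgroup.upperCentralSeries G n) : Commute x g := by
  have hcop : (orderOf g).Coprime (Nat.card D) := by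
    obtain ⟨k, hk⟩ := IsPGroup.iff_card.mp hD
    rw [hk]; exact hgp.pow_right k
  refine Lib.CoprimeStab.commute_of_chain (H := D) hcop n
    (fun i => D ⊓ Subgroup.upperCentralSeries G (n - i)) (fun i => inf_le_left) ?_ ?_ 0 x ?_
  · simp
  · intro i y hy
    obtain ⟨hy1, hy2⟩ := Subgroup.mem_inf.1 hy
    refine Subgroup.mem_inf.2 ⟨?_, ?_⟩
    · have h1 : g * y⁻¹ * g⁻¹ ∈ D := (Subgroup.mem_normalizer_iff.1 hg _).1 (D.inv_mem hy1)
      have h2 : ⁅y, g⁆ = y * (g * y⁻¹ * g⁻¹) := by rw [commutatorElement_def]; group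
      rw [h2]; exact D.mul_mem hy1 h1
    · have h3 : n - (i.castSucc : ℕ) = (n - (i.succ : ℕ)) + 1 := by
        have := i.2
        simp only [Fin.val_castSucc, Fin.val_succ]
        omega
      rw [h3] at hy2
      exact (Subgroup.mem_upperCentralSeries_succ_iff.1 hy2) g
  · refine Subgroup.mem_inf.2 ⟨hx, ?_⟩
    simpa using hxn

/-- If small elements of `D` commute with the `p'`-element `g` normalizing the `p`-group `D`,
then `g` centralizes `D`. -/
theorem mem_centralizer_of_small {G : Type*} [Group G] {p : ℕ} [hp : Fact p.Prime]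
    {D : Subgroup G} [Finite D] (hD : IsPGroup p D) {g : G}
    (hg : g ∈ Subgroup.normalizer (D : Set G))
    (hgp : (orderOf g).Coprime p)
    (h : ∀ x ∈ D, (x ^ p = 1 ∨ (p = 2 ∧ x ^ 4 = 1)) → Commute x g) :
    g ∈ Subgroup.centralizer (D : Set G) := by
  set b : MulAut D := D.normalizerMonoidHom ⟨g, hg⟩ with hb
  have hbx : ∀ x : D, ((b x : D) : G) = g * x * g⁻¹ := fun x => rfl
  have hord : (orderOf b).Coprime p := by
    have h1 : orderOf b ∣ orderOf (⟨g, hg⟩ : Subgroup.normalizer (D : Set G)) :=
      orderOf_map_dvd _ _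
    rw [Subgroup.orderOf_mk] at h1
    exact Nat.Coprime.coprime_dvd_left h1 hgp
  have h1 : b = 1 := by
    apply H794.mulAut_eq_one_of_fix_small hD b hord
    intro x hx
    apply Subtype.ext
    rw [hbx]
    have hx' : ((x : G) ^ p = 1 ∨ (p = 2 ∧ (x : G) ^ 4 = 1)) := by
      rcases hx with hx | ⟨h2, hx⟩
      · left; exact congrArg Subtype.val hx
      · right; exact ⟨h2, congrArg Subtype.val hx⟩
    have := h x x.2 hx'
    rw [← this.eq, mul_inv_cancel_right]
  rw [Subgroup.mem_centralizer_iff]
  intro x hx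
  have h2 := hbx ⟨x, hx⟩
  rw [h1] at h2
  have h3 : x = g * x * g⁻¹ := h2
  conv_lhs => rw [h3]
  group

/-- Frobenius' criterion on small elements. -/
theorem hasNormalPComplement_of_small {G : Type*} [Group G] [Finite G] {p : ℕ} [hp : Fact p.Prime]
    (h : ∀ D : Subgroup G, IsPGroup p D → ∀ g ∈ Subgroup.normalizer (D : Set G),
      (orderOf g).Coprime p → ∀ x ∈ D, (x ^ p = 1 ∨ (p = 2 ∧ x ^ 4 = 1)) → Commute x g) :
    HasNormalPComplement p G := by
  rw [Transfer.FrobeniusFusion.hasNormalPComplement_iff_localCondition]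
  intro D hD g hg hgp
  exact mem_centralizer_of_small hD hg hgp (h D hD g hg hgp)

/-- S1947 -/
theorem hasNormalPComplement_of_upperCentralSeries {G : Type*} [Group G] [Finite G] {p : ℕ}
    [hp : Fact p.Prime] (n : ℕ)
    (h : ∀ a : G, (a ^ p = 1 ∨ (p = 2 ∧ a ^ 4 = 1)) → a ∈ Subgroup.upperCentralSeries G n) :
    HasNormalPComplement p G :=
  hasNormalPComplement_of_small fun _D hD _g hg hgp x hx hxs =>
    commute_of_upperCentralSeries hD hg hgp n hx (h x hxs)

end Cfsg.Agent.H29.Hyper
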