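import Cfsg.Agent.H160.PD.Crit
import Cfsg.Agent.H83.AutCount
import Cfsg.Agent.H568.RowTools
import Cfsg.Agent.S0005
import Cfsg.Agent.S0205

/-!
# S4246: `NoOdd` from cyclic centralisers and normalisers (helper29)

* `noOdd` : the elements of order `r`, `s` have cyclic centralisers, `s ∤ |N(⟨x⟩)|`, `r ∤ |N(⟨y⟩)|`: no subgroup of odd
  order of `S` has order divisible by `r` and `s`;
* `Iso1 S l x c` : `x` has prime order `l`, cyclic centraliser `T`, `|S : T| ≡ c` modulo `l`, `0 < c < l`; all elements of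
  order `l` have the same properties.
-/

set_option autoImplicit false
set_option linter.unusedSectionVars false

namespace Cfsg.Agent.H29.PDNoOdd

open Subgroup Cfsg.Agent.H160.PD Cfsg.Agent.H83.AutCount

theorem exists_abelian_normal {K : Type*} [Group K] (hs : Group.IsSolvable K) [Nontrivial K] :
    ∃ A : Subgroup K, A.Normal ∧ A ≠ ⊥ ∧ ∀ a ∈ A, ∀ b ∈ A, a * b = b * a := by
  classical
  have h : ∃ n, derivedSeries K n = ⊥ := hs.solvable
  have h1 := Nat.find_spec h
  have h0 : Nat.find h ≠ 0 := by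
    intro h0
    rw [h0, derivedSeries_zero] at h1
    exact top_ne_bot h1
  obtain ⟨m, hm⟩ := Nat.exists_eq_succ_of_ne_zero h0
  refine ⟨derivedSeries K m, derivedSeries_normal K m, Nat.find_min h (by omega), ?_⟩
  rw [hm, derivedSeries_succ, commutator_eq_bot_iff_le_centralizer] at h1
  intro a ha b hb
  exact (mem_centralizer_iff.1 (h1 ha) b hb).symm

variable {S : Type*} [Group S] [Finite S]

/-- a group `K` of order `r ^ a s ^ b` acting -/
theorem one_side {K : Type*} [Group K] [Finite K] (φ : K →* S) (hφ : Function.Injective φ) {r s : ℕ} (hr : r.Prime)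
    (hcr : ∀ x : S, orderOf x = r → IsCyclic ↥(centralizer {x}))
    (hnr : ∀ x : S, orderOf x = r → ¬ s ∣ Nat.card ↥(normalizer ((zpowers x : Subgroup S) : Set S)))
    (hsK : s ∣ Nat.card K) {A : Subgroup K} (hA : A.Normal) (hAc : ∀ a ∈ A, ∀ b ∈ A, a * b = b * a)
    (hrA : r ∣ Nat.card A) : False := by
  have hrf : Fact r.Prime := ⟨hr⟩
  obtain ⟨⟨x, hx⟩, hxo⟩ := exists_prime_orderOf_dvd_card' r hrA
  have hxo' : orderOf x = r := by rw [← hxo]; exact (Subgroup.orderOf_mk x hx).symm
  have hφo : orderOf (φ x) = r := by rw [orderOf_injective φ hφ, hxo']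
  apply hnr (φ x) hφo
  have h1 : φ.range ≤ normalizer ((zpowers (φ x) : Subgroup S) : Set S) := by
    rintro _ ⟨g, rfl⟩
    rw [mem_norm_iff hr hφo rfl (hcr _ hφo), mem_centralizer_singleton_iff, ← map_inv, ← map_mul, ← map_mul, ← map_mul,
      ← map_mul]
    congr 1
    apply hAc _ ?_ _ hx
    have := hA.conj_mem x hx g⁻¹
    rwa [inv_inv] at this
  have h2 : Nat.card φ.range = Nat.card K := (Nat.card_congr (MonoidHom.ofInjective hφ).toEquiv).symm
  exact (h2 ▸ hsK).trans (card_dvd_of_le h1)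

/-- **No subgroup of odd order.** -/
theorem noOdd {r s : ℕ} (hr : r.Prime) (hs : s.Prime) (hrs : r ≠ s)
    (hcr : ∀ x : S, orderOf x = r → IsCyclic ↥(centralizer {x}))
    (hcs : ∀ x : S, orderOf x = s → IsCyclic ↥(centralizer {x}))
    (hnr : ∀ x : S, orderOf x = r → ¬ s ∣ Nat.card ↥(normalizer ((zpowers x : Subgroup S) : Set S)))
    (hns : ∀ x : S, orderOf x = s → ¬ r ∣ Nat.card ↥(normalizer ((zpowers x : Subgroup S) : Set S))) :
    NoOdd S r s := by
  classical
  intro H hH hrH hsH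
  have hsol := S0205.result hH
  have hH0 : Nat.card H ≠ 0 := Nat.card_pos.ne'
  set a := (Nat.card H).factorization r with ha
  set b := (Nat.card H).factorization s with hb
  have ha0 : a ≠ 0 := by
    have := (hr.dvd_iff_one_le_factorization hH0).1 hrH
    omega
  have hb0 : b ≠ 0 := by
    have := (hs.dvd_iff_one_le_factorization hH0).1 hsH
    omega
  have hdvd : r ^ a * s ^ b ∣ Nat.card H := by
    refine Nat.Coprime.mul_dvd_of_dvd_of_dvd ?_ (Nat.ordProj_dvd _ _) (Nat.ordProj_dvd _ _)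
    exact Nat.Coprime.pow _ _ ((Nat.coprime_primes hr hs).2 hrs)
  obtain ⟨n, hn⟩ := hdvd
  have hrn : ¬ r ∣ n := by
    rintro ⟨m, rfl⟩
    apply Nat.pow_succ_factorization_not_dvd hH0 hr
    rw [← ha, hn]
    exact ⟨s ^ b * m, by rw [pow_succ]; ring⟩
  have hsn : ¬ s ∣ n := by
    rintro ⟨m, rfl⟩
    apply Nat.pow_succ_factorization_not_dvd hH0 hs
    rw [← hb, hn]
    exact ⟨r ^ a * m, by rw [pow_succ]; ring⟩
  have hcr' : (r ^ a * s ^ b).Coprime n :=
    Nat.Coprime.mul_left (((Nat.Prime.coprime_iff_not_dvd hr).2 hrn).pow_left a)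
      (((Nat.Prime.coprime_iff_not_dvd hs).2 hsn).pow_left b)
  obtain ⟨K, hK, -⟩ := S0005.result (G := H) (r ^ a * s ^ b) n hn hcr' ⊥ (by simp)
  have hrK : r ∣ Nat.card K := by rw [hK]; exact (dvd_pow_self r ha0).mul_right _
  have hsK : s ∣ Nat.card K := by rw [hK]; exact (dvd_pow_self s hb0).mul_left _
  have hKnt : Nontrivial K := by
    rw [← Finite.one_lt_card_iff_nontrivial]
    exact lt_of_lt_of_le hr.one_lt (Nat.le_of_dvd Nat.card_pos hrK)
  have hKs : Group.IsSolvable K := inferInstance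
  obtain ⟨A, hA, hA1, hAc⟩ := exists_abelian_normal hKs
  have hA1' : Nat.card A ≠ 1 := fun h => hA1 (eq_bot_of_card_eq _ h)
  obtain ⟨t, ht, htA⟩ := Nat.exists_prime_and_dvd hA1'
  have htK : t ∣ r ^ a * s ^ b := by
    rw [← hK]
    exact htA.trans (card_subgroup_dvd_card A)
  set φ : K →* S := H.subtype.comp K.subtype with hφ
  have hφi : Function.Injective φ := H.subtype_injective.comp K.subtype_injective
  rcases ht.dvd_mul.1 htK with h | h
  · rw [(Nat.prime_dvd_prime_iff_eq ht hr).1 (ht.dvd_of_dvd_pow h)] at htA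
    exact one_side φ hφi hr hcr hnr hsK hA hAc htA
  · rw [(Nat.prime_dvd_prime_iff_eq ht hs).1 (ht.dvd_of_dvd_pow h)] at htA
    exact one_side φ hφi hs hcs hns hrK hA hAc htA

/-- an element of prime order with cyclic centraliser of index `≡ c` modulo the prime -/
structure Iso1 (S : Type*) [Group S] (l : ℕ) (x : S) (c : ℕ) : Prop where
  prime : l.Prime
  ord : orderOf x = l
  cyc : IsCyclic ↥(centralizer {x})
  pos : 0 < c
  lt : c < l
  mod : (centralizer {x}).index ≡ c [MOD l]

namespace Iso1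

variable {l : ℕ} {x : S} {c : ℕ}

theorem not_dvd (h : Iso1 S l x c) : ¬ l ∣ (centralizer {x}).index := by
  intro hd
  have h1 := (Nat.modEq_zero_iff_dvd.2 hd).symm.trans h.mod
  have h2 : l ∣ c := (Nat.modEq_zero_iff_dvd).1 h1.symm
  exact absurd (Nat.le_of_dvd h.pos h2) (by have := h.lt; omega)

/-- all elements of order `l` -/
theorem conj (h : Iso1 S l x c) {y : S} (hy : orderOf y = l) :
    ∃ s : S, y ∈ zpowers (s * x * s⁻¹) ∧ s * x * s⁻¹ ∈ zpowers y := by
  have hl : Fact l.Prime := ⟨h.prime⟩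
  obtain ⟨P, hP⟩ := exists_cyclic_sylow (G := S) (p := l) (T := centralizer {x}) h.cyc h.not_dvd
  exact H568.conj_of_cyclic P hP h.ord y hy

theorem centralizer_eq {x y : S} (h1 : y ∈ zpowers x) (h2 : x ∈ zpowers y) : centralizer {x} = centralizer {y} := by
  have key : ∀ {x y : S}, y ∈ zpowers x → centralizer {x} ≤ centralizer {y} := by
    intro x y h1 g hg
    rw [mem_centralizer_singleton_iff] at hg ⊢
    obtain ⟨i, rfl⟩ := h1
    exact ((show Commute g x from hg).zpow_right i).eq
  exact le_antisymm (key h1) (key h2)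

theorem centralizer_conj (s x : S) :
    (centralizer {x}).map (MulAut.conj s).toMonoidHom = centralizer {s * x * s⁻¹} := by
  ext g
  rw [mem_map, mem_centralizer_singleton_iff]
  constructor
  · rintro ⟨y, hy, rfl⟩
    rw [mem_centralizer_singleton_iff] at hy
    show s * y * s⁻¹ * (s * x * s⁻¹) = s * x * s⁻¹ * (s * y * s⁻¹)
    calc s * y * s⁻¹ * (s * x * s⁻¹) = s * (y * x) * s⁻¹ := by group
      _ = s * (x * y) * s⁻¹ := by rw [hy]
      _ = _ := by group
  · intro hg
    refine ⟨s⁻¹ * g * s, ?_, by show s * (s⁻¹ * g * s) * s⁻¹ = g; group⟩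
    rw [mem_centralizer_singleton_iff]
    calc s⁻¹ * g * s * x = s⁻¹ * (g * (s * x * s⁻¹)) * s := by group
      _ = s⁻¹ * (s * x * s⁻¹ * g) * s := by rw [hg]
      _ = _ := by group

/-- **transport to all elements of order `l`** -/
theorem all (h : Iso1 S l x c) {y : S} (hy : orderOf y = l) :
    Iso1 S l y c ∧ Nat.card ↥(centralizer {y}) = Nat.card ↥(centralizer {x}) := by
  obtain ⟨s, h1, h2⟩ := h.conj hy
  have h3 : centralizer {y} = (centralizer {x}).map (MulAut.conj s).toMonoidHom := by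
    rw [centralizer_conj, centralizer_eq h1 h2]
  have h4 : Nat.card ↥(centralizer {y}) = Nat.card ↥(centralizer {x}) := by
    rw [h3, card_map_of_injective (MulAut.conj s).injective]
  have h5 : (centralizer {y}).index = (centralizer {x}).index := by
    have e1 := (centralizer {y}).card_mul_index
    have e2 := (centralizer {x}).card_mul_index
    rw [h4, ← e2] at e1
    exact Nat.eq_of_mul_eq_mul_left Nat.card_pos e1
  refine ⟨⟨h.prime, hy, ?_, h.pos, h.lt, by rw [h5]; exact h.mod⟩, h4⟩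
  have h6 := h.cyc
  rw [h3]
  exact isCyclic_of_surjective ((centralizer {x}).equivMapOfInjective _ (MulAut.conj s).injective).toMonoidHom
    ((centralizer {x}).equivMapOfInjective _ (MulAut.conj s).injective).surjective

theorem card_norm' (h : Iso1 S l x c) {y : S} (hy : orderOf y = l) :
    Nat.card ↥(normalizer ((zpowers y : Subgroup S) : Set S)) = c * Nat.card ↥(centralizer {x}) := by
  obtain ⟨h1, h2⟩ := h.all hy
  rw [H83.AutCount.card_norm h1.prime h1.ord rfl h1.cyc h1.pos h1.lt h1.mod, h2]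

/-- **`NoOdd` for two such primes** -/
theorem noOdd (h : Iso1 S l x c) {l' : ℕ} {x' : S} {c' : ℕ} (h' : Iso1 S l' x' c') (hll : l ≠ l')
    (h1 : ¬ l' ∣ Nat.card ↥(centralizer {x})) (h2 : ¬ l ∣ Nat.card ↥(centralizer {x'})) (h3 : c < l') (h4 : c' < l) :
    NoOdd S l l' := by
  refine PDNoOdd.noOdd h.prime h'.prime hll (fun y hy => (h.all hy).1.cyc) (fun y hy => (h'.all hy).1.cyc)
    (fun y hy hd => ?_) fun y hy hd => ?_
  · rw [h.card_norm' hy] at hd
    rcases h'.prime.dvd_mul.1 hd with h5 | h5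
    · exact absurd (Nat.le_of_dvd h.pos h5) (by omega)
    · exact h1 h5
  · rw [h'.card_norm' hy] at hd
    rcases h.prime.dvd_mul.1 hd with h5 | h5
    · exact absurd (Nat.le_of_dvd h'.pos h5) (by omega)
    · exact h2 h5

/-- `Good` -/
theorem good (h : Iso1 S l x c) (hl2 : l ≠ 2) (ho : ¬ l ∣ out S) : Good S l where
  prime := h.prime
  odd := hl2
  lt := by
    rw [Nat.factorization_eq_zero_of_not_dvd ho]
    exact (h.prime.dvd_iff_one_le_factorization Nat.card_pos.ne').1 (h.ord ▸ orderOf_dvd_natCard x)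

end Iso1

end Cfsg.Agent.H29.PDNoOdd
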