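import Cfsg.Agent.H83.NumE6

/-!
# S4246, the row `²E₆(q)`: numbers (helper29)
-/

set_option autoImplicit false

namespace Cfsg.Agent.H29.PDTwE6Num

open Cfsg.Agent.H83.NumE6

/-- primitive primes: the order of `r` modulo `l` -/
theorem exists_prim {r n : ℕ} (hr : r.Prime) (hn : 7 ≤ n) :
    ∃ l : ℕ, l.Prime ∧ orderOf (r : ZMod l) = n ∧ n < l := by
  obtain ⟨l, hl, hd, hl1, -⟩ := Lib.Zsigmondy.exists_primitive hr.two_le (n := n) (by omega) (by omega) (by omega)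
  have hpos : ∀ m, 1 ≤ r ^ m := fun m => Nat.one_le_pow _ _ hr.pos
  have hl2 := hl.two_le
  refine ⟨l, hl, ?_, ?_⟩
  · have key : ∀ m, (r : ZMod l) ^ m = 1 ↔ n ∣ m := by
      intro m
      rw [← hd m, ← ZMod.natCast_eq_zero_iff, Nat.cast_sub (hpos m)]
      push_cast
      rw [sub_eq_zero]
    apply Nat.dvd_antisymm
    · rw [orderOf_dvd_iff_pow_eq_one, key]
    · rw [← key, pow_orderOf_eq_one]
  · have := Nat.le_of_dvd (by omega) hl1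
    omega

theorem pow_facts {l r f m : ℕ} (hf : 1 ≤ f) (ho : orderOf (r : ZMod l) = m * f) :
    ∀ j, ((r ^ f : ℕ) : ZMod l) ^ j = 1 ↔ m ∣ j := by
  intro j
  rw [Nat.cast_pow, ← pow_mul, ← orderOf_dvd_iff_pow_eq_one, ho, mul_comm f j]
  exact Nat.mul_dvd_mul_iff_right hf

/-- `12 f` -/
theorem exists_l12 {r f : ℕ} (hr : r.Prime) (hf : 1 ≤ f) :
    ∃ l : ℕ, l.Prime ∧ orderOf (r : ZMod l) = 12 * f ∧ l ∣ (r ^ f) ^ 4 - (r ^ f) ^ 2 + 1 ∧ 12 * f < l := by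
  obtain ⟨l, hl, ho, hlt⟩ := exists_prim hr (n := 12 * f) (by omega)
  refine ⟨l, hl, ho, ?_, hlt⟩
  have hlf : Fact l.Prime := ⟨hl⟩
  have hp := pow_facts hf ho
  have h1 : (r ^ f) ^ 2 ≤ (r ^ f) ^ 4 := le2 (Nat.one_le_pow _ _ hr.pos)
  rw [← ZMod.natCast_eq_zero_iff]
  push_cast [Nat.cast_sub h1]
  push_cast at hp
  generalize (r : ZMod l) ^ f = y at hp
  have h12 := (hp 12).2 dvd_rfl
  have h6 : y ^ 6 ≠ 1 := fun h => by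
    have := (hp 6).1 h
    omega
  have h4 : y ^ 4 ≠ 1 := fun h => by
    have := (hp 4).1 h
    omega
  have e1 : (y ^ 6 - 1) * ((y ^ 2 + 1) * (y ^ 4 - y ^ 2 + 1)) = 0 := by
    have : (y ^ 6 - 1) * ((y ^ 2 + 1) * (y ^ 4 - y ^ 2 + 1)) = y ^ 12 - 1 := by ring
    rw [this, h12, sub_self]
  rcases mul_eq_zero.1 e1 with h | h
  · exact absurd (sub_eq_zero.1 h) h6
  · rcases mul_eq_zero.1 h with h | h
    · exfalso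
      apply h4
      linear_combination (y ^ 2 - 1) * h
    · exact h

/-- `8 f` -/
theorem exists_l8 {r f : ℕ} (hr : r.Prime) (hf : 1 ≤ f) :
    ∃ l : ℕ, l.Prime ∧ orderOf (r : ZMod l) = 8 * f ∧ l ∣ (r ^ f) ^ 4 + 1 ∧ 8 * f < l := by
  obtain ⟨l, hl, ho, hlt⟩ := exists_prim hr (n := 8 * f) (by omega)
  refine ⟨l, hl, ho, ?_, hlt⟩
  have hlf : Fact l.Prime := ⟨hl⟩
  have hp := pow_facts hf ho
  rw [← ZMod.natCast_eq_zero_iff]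
  push_cast
  push_cast at hp
  generalize (r : ZMod l) ^ f = y at hp
  have h8 := (hp 8).2 dvd_rfl
  have h4 : y ^ 4 ≠ 1 := fun h => by
    have := (hp 4).1 h
    omega
  have e1 : (y ^ 4 - 1) * (y ^ 4 + 1) = 0 := by
    have : (y ^ 4 - 1) * (y ^ 4 + 1) = y ^ 8 - 1 := by ring
    rw [this, h8, sub_self]
  rcases mul_eq_zero.1 e1 with h | h
  · exact absurd (sub_eq_zero.1 h) h4
  · exact h

def M3 (q : ℕ) : ℕ := q ^ 36 * (q ^ 5 + 1) * (q ^ 6 - 1) * (q ^ 4 - 1) * (q ^ 9 + 1) * (q ^ 12 - 1)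

theorem eq3 {q : ℕ} (hq : 1 ≤ q) :
    q ^ 36 * (q ^ 2 - 1) * (q ^ 5 + 1) * (q ^ 6 - 1) * (q ^ 8 - 1) * (q ^ 9 + 1) * (q ^ 12 - 1) =
      ((q ^ 4 + 1) * (q ^ 2 - 1)) * M3 q := by
  have e : q ^ 8 - 1 = (q ^ 4 - 1) * (q ^ 4 + 1) := by
    zify [onele hq 8, onele hq 4]; ring
  unfold M3
  rw [e]
  ring

theorem mod3 {q : ℕ} (hq : 1 ≤ q) {m : ℕ} (hm : m ∣ q ^ 4 + 1) : M3 q ≡ 8 [MOD m] := by
  rw [← ZMod.natCast_eq_natCast_iff, M3]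
  have h3 : (q : ZMod m) ^ 4 + 1 = 0 := by
    have h4 := (ZMod.natCast_eq_zero_iff (q ^ 4 + 1) m).2 hm
    push_cast at h4
    exact h4
  push_cast [Nat.cast_sub (onele hq 4), Nat.cast_sub (onele hq 6), Nat.cast_sub (onele hq 12)]
  generalize (q : ZMod m) = y at h3
  have h4 : y ^ 4 = -1 := by linear_combination h3
  have h36 : y ^ 36 = -1 := by
    calc y ^ 36 = (y ^ 4) ^ 9 := by ring
      _ = -1 := by rw [h4]; ring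
  have h12 : y ^ 12 = -1 := by
    calc y ^ 12 = (y ^ 4) ^ 3 := by ring
      _ = -1 := by rw [h4]; ring
  have h9 : y ^ 9 = y := by
    calc y ^ 9 = (y ^ 4) ^ 2 * y := by ring
      _ = _ := by rw [h4]; ring
  have h6 : y ^ 6 = -y ^ 2 := by
    calc y ^ 6 = y ^ 4 * y ^ 2 := by ring
      _ = _ := by rw [h4]; ring
  have h5 : y ^ 5 = -y := by
    calc y ^ 5 = y ^ 4 * y := by ring
      _ = _ := by rw [h4]; ring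
  rw [h36, h12, h9, h6, h5, h4]
  linear_combination (-4) * h4

theorem castN3 {q : ℕ} (hq1 : 1 ≤ q) : (((q ^ 4 + 1) * (q ^ 2 - 1) : ℕ) : ℤ) =
    -1 + (q : ℤ) ^ 2 - (q : ℤ) ^ 4 + (q : ℤ) ^ 6 := by
  push_cast [Nat.cast_sub (onele hq1 2)]; ring

theorem castN1 {q : ℕ} (hq1 : 1 ≤ q) : ((q ^ 6 - q ^ 3 + 1 : ℕ) : ℤ) = 1 - (q : ℤ) ^ 3 + (q : ℤ) ^ 6 := by
  push_cast [Nat.cast_sub (le1 hq1)]; ring

theorem castN2 {q : ℕ} (hq1 : 1 ≤ q) : (((q ^ 4 - q ^ 2 + 1) * (q ^ 2 - q + 1) : ℕ) : ℤ) =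
    1 - (q : ℤ) + (q : ℤ) ^ 3 - (q : ℤ) ^ 5 + (q : ℤ) ^ 6 := by
  push_cast [Nat.cast_sub (le2 hq1), Nat.cast_sub (le3 hq1)]; ring

theorem gcd_AC {q : ℕ} (hq1 : 1 ≤ q) : Nat.gcd (q ^ 6 - q ^ 3 + 1) ((q ^ 4 + 1) * (q ^ 2 - 1)) ∣ 3 := by
  set g := Nat.gcd (q ^ 6 - q ^ 3 + 1) ((q ^ 4 + 1) * (q ^ 2 - 1)) with hg
  have h1 : (g : ℤ) ∣ 1 - (q : ℤ) ^ 3 + (q : ℤ) ^ 6 := by
    rw [← castN1 hq1]
    exact Int.natCast_dvd_natCast.2 (Nat.gcd_dvd_left _ _)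
  have h2 : (g : ℤ) ∣ -1 + (q : ℤ) ^ 2 - (q : ℤ) ^ 4 + (q : ℤ) ^ 6 := by
    rw [← castN3 hq1]
    exact Int.natCast_dvd_natCast.2 (Nat.gcd_dvd_right _ _)
  have h3 : (g : ℤ) ∣ 3 := by
    have e : (3 : ℤ) = (1 - (q : ℤ) + 3 * (q : ℤ) ^ 2 - 2 * (q : ℤ) ^ 4 + 2 * (q : ℤ) ^ 5) *
          (1 - (q : ℤ) ^ 3 + (q : ℤ) ^ 6) +
        (-2 - (q : ℤ) + (q : ℤ) ^ 2 - 2 * (q : ℤ) ^ 3 + 2 * (q : ℤ) ^ 4 - 2 * (q : ℤ) ^ 5) *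
          (-1 + (q : ℤ) ^ 2 - (q : ℤ) ^ 4 + (q : ℤ) ^ 6) := by ring
    rw [e]
    exact dvd_add (h1.mul_left _) (h2.mul_left _)
  exact_mod_cast h3

theorem gcd_BC {q : ℕ} (hq1 : 1 ≤ q) :
    Nat.gcd ((q ^ 4 - q ^ 2 + 1) * (q ^ 2 - q + 1)) ((q ^ 4 + 1) * (q ^ 2 - 1)) ∣ 3 := by
  set g := Nat.gcd ((q ^ 4 - q ^ 2 + 1) * (q ^ 2 - q + 1)) ((q ^ 4 + 1) * (q ^ 2 - 1)) with hg
  have h1 : (g : ℤ) ∣ 1 - (q : ℤ) + (q : ℤ) ^ 3 - (q : ℤ) ^ 5 + (q : ℤ) ^ 6 := by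
    rw [← castN2 hq1]
    exact Int.natCast_dvd_natCast.2 (Nat.gcd_dvd_left _ _)
  have h2 : (g : ℤ) ∣ -1 + (q : ℤ) ^ 2 - (q : ℤ) ^ 4 + (q : ℤ) ^ 6 := by
    rw [← castN3 hq1]
    exact Int.natCast_dvd_natCast.2 (Nat.gcd_dvd_right _ _)
  have h3 : (g : ℤ) ∣ 3 := by
    have e : (3 : ℤ) = (1 + 2 * (q : ℤ) + 3 * (q : ℤ) ^ 2 - 2 * (q : ℤ) ^ 4 - (q : ℤ) ^ 5) *
          (1 - (q : ℤ) + (q : ℤ) ^ 3 - (q : ℤ) ^ 5 + (q : ℤ) ^ 6) +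
        (-2 + (q : ℤ) - (q : ℤ) ^ 2 - (q : ℤ) ^ 3 + (q : ℤ) ^ 4 + (q : ℤ) ^ 5) *
          (-1 + (q : ℤ) ^ 2 - (q : ℤ) ^ 4 + (q : ℤ) ^ 6) := by ring
    rw [e]
    exact dvd_add (h1.mul_left _) (h2.mul_left _)
  exact_mod_cast h3

/-- the prime 3 -/
theorem three_N1 {q : ℕ} (hq1 : 1 ≤ q) (h : 3 ∣ q ^ 6 - q ^ 3 + 1) : 3 ∣ q + 1 := by
  have h1 := (ZMod.natCast_eq_zero_iff (q ^ 6 - q ^ 3 + 1) 3).2 h
  push_cast [Nat.cast_sub (le1 hq1)] at h1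
  rw [← ZMod.natCast_eq_zero_iff]
  push_cast
  revert h1
  generalize (q : ZMod 3) = x
  revert x
  decide

theorem three_N2 {q : ℕ} (hq1 : 1 ≤ q) (h : 3 ∣ (q ^ 4 - q ^ 2 + 1) * (q ^ 2 - q + 1)) : 3 ∣ q + 1 := by
  have h1 := (ZMod.natCast_eq_zero_iff ((q ^ 4 - q ^ 2 + 1) * (q ^ 2 - q + 1)) 3).2 h
  push_cast [Nat.cast_sub (le2 hq1), Nat.cast_sub (le3 hq1)] at h1
  rw [← ZMod.natCast_eq_zero_iff]
  push_cast
  revert h1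
  generalize (q : ZMod 3) = x
  revert x
  decide

/-- the order of `q ^ 2` modulo a divisor of `q ^ 4 + 1` -/
theorem ord_C {q l : ℕ} (hl : l.Prime) (hl2 : l ≠ 2) (hlN : l ∣ q ^ 4 + 1) : orderOf ((q ^ 2 : ℕ) : ZMod l) = 4 := by
  have hlf : Fact l.Prime := ⟨hl⟩
  have h1 : (q : ZMod l) ^ 4 + 1 = 0 := by
    have h1 := (ZMod.natCast_eq_zero_iff (q ^ 4 + 1) l).2 hlN
    push_cast at h1
    exact h1
  have h2 : ((2 : ℕ) : ZMod l) ≠ 0 := by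
    intro h
    rw [ZMod.natCast_eq_zero_iff] at h
    exact hl2 ((Nat.prime_dvd_prime_iff_eq hl Nat.prime_two).1 h)
  push_cast at h2 ⊢
  generalize (q : ZMod l) = y at h1
  apply orderOf_eq_of_pow_and_pow_div_prime (by norm_num)
  · calc (y ^ 2) ^ 4 = (y ^ 4 + 1 - 1) ^ 2 := by ring
      _ = 1 := by rw [h1]; ring
  · intro p hp hpd
    have : p = 2 := by
      have h5 : p ∣ 2 ^ 2 := hpd
      exact (Nat.prime_dvd_prime_iff_eq hp Nat.prime_two).1 (hp.dvd_of_dvd_pow h5)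
    subst this
    intro h
    apply h2
    have e : (y ^ 2) ^ (4 / 2) = y ^ 4 + 1 - 1 := by norm_num; ring
    rw [e, h1] at h
    linear_combination -h

/-- the number `c` with `3 c ≡ 8` -/
theorem exists_c {l : ℕ} (hl : Odd l) (hl17 : 16 < l) (h3 : ¬ 3 ∣ l) :
    ∃ c, 0 < c ∧ c < l ∧ 8 ≡ 3 * c [MOD l] ∧ ¬ 4 ∣ c := by
  obtain ⟨j, hj⟩ := hl
  rcases (by omega : l % 3 = 1 ∨ l % 3 = 2) with h | h
  · refine ⟨(8 + l) / 3, by omega, by omega, ?_, by omega⟩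
    have e : 3 * ((8 + l) / 3) = 8 + l := by omega
    rw [e]
    exact (Nat.add_modEq_right).symm
  · refine ⟨(8 + 2 * l) / 3, by omega, by omega, ?_, by omega⟩
    have e : 3 * ((8 + 2 * l) / 3) = 8 + l * 2 := by omega
    rw [e]
    rw [Nat.ModEq, Nat.add_mul_mod_self_left]

end Cfsg.Agent.H29.PDTwE6Num
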