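import Cfsg.Agent.H83.RowE6
import Cfsg.Agent.H29.PDNoOdd
import Cfsg.Agent.H29.PDTwE6Num

/-!
# S4246, the row `²E₆(q)` (helper29, task 3524)

Three cyclic tori `T_A`, `T_B`, `T_C` of orders `(q⁶ - q³ + 1) / d`, `(q⁴ - q² + 1)(q² - q + 1) / d`,
`(q⁴ + 1)(q² - 1) / d`, `d = (3, q + 1)`, and primitive primes of `p^(18 e) - 1`, `p^(12 e) - 1`, `p^(8 e) - 1`.
-/

set_option autoImplicit false
set_option linter.unusedSectionVars false

namespace Cfsg.Agent.H29.PDTwE6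

open CoxeterSystem Cfsg Cfsg.Lie Cfsg.Lie.ChevalleyDatum
open Cfsg.Agent.ChevalleyStructure Cfsg.Agent.ChevalleyStructure.Elts Cfsg.Agent.ChevalleyStructure.CoxeterGeom
  Cfsg.Agent.ChevalleyStructure.CoxeterGeomTypes Cfsg.Agent.ChevalleyStructure.NPerm
open Cfsg.Agent.Tits.Roots Cfsg.Agent.Tits.Core Cfsg.Agent.Nodes Cfsg.Agent.Nodes.Reps Cfsg.Agent.Nodes.BNOf
  Cfsg.Agent.Nodes.RGDChev Cfsg.Agent.Nodes.Bruhat Cfsg.Agent.Nodes.SubComb Cfsg.Agent.Nodes.Coroot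
open Cfsg.Agent.KFacts.RgdField Cfsg.Agent.KFacts.RgdChevCoord Cfsg.Agent.BpExc.TorCent Cfsg.Agent.BpExc.TorChev
open Cfsg.Agent.GpExc.Field Cfsg.Agent.BpExc.Tow Cfsg.Agent.BpExc.TowChev Cfsg.Agent.BpExc.Fr
  Cfsg.Agent.BpExc.LangFr Cfsg.Agent.LangThm Cfsg.Agent.BpExc Cfsg.Agent.H129.TorusChar Cfsg.Agent.H129.TorusCent
  Cfsg.Agent.H129.TorusTw Cfsg.Agent.H129.TorusMain Cfsg.Agent.H129.TorusUntw Cfsg.Agent.ChevStructure.FieldMap
  Cfsg.Agent.BpExc.EmbSplit Cfsg.Agent.BpExc.EmbInst Cfsg.Agent.H83.TorAut Cfsg.Agent.H129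
  Cfsg.Agent.H129.TwE6Fr Cfsg.Agent.H83.RootCount Cfsg.Agent.H83.TorE6 Cfsg.Agent.H83.AutCount
  Cfsg.Agent.H568 Cfsg.Agent.H83.RowE6A Cfsg.Agent.H83.RowE6B Cfsg.Agent.H83.RowE6C Cfsg.Agent.H83.RowE6
open Cfsg.Agent.H29.PDNoOdd (Iso1)
open Cfsg.Agent.H160.PD (Inc NoOdd Good)

universe u

/-! ### the third torus -/

section

variable {k : Type u} [Field k] [IsAlgClosed k] {p e : ℕ} [Fact p.Prime] [CharP k p]
  {F : Type u} [Field F] [Fintype F] (f : F →+* k) {q : ℕ} (hq : IsPrimePow q) (hF : Fintype.card F = q ^ 2)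

theorem coprimeC {q : ℕ} (hq1 : 1 ≤ q) : q.Coprime ((q ^ 4 + 1) * (q ^ 2 - 1)) := by
  rw [← Nat.isCoprime_iff_coprime, PDTwE6Num.castN3 hq1]
  exact ⟨(q : ℤ) - (q : ℤ) ^ 3 + (q : ℤ) ^ 5, -1, by ring⟩

theorem torC (hk : LocFin k) (hqe : q = p ^ e) :
    ∃ (d' : ℕ) (z t : ↥(chevE6.group k)) (u : k) (x0 : ↥(twistedE6 F q)),
    Tor6 f hq hF cE p e H83.TwEC.B ((q ^ 4 + 1) * (q ^ 2 - 1)) d' z t u x0 := by
  have hq1 := hq.one_lt.le
  have hlin := lin_flip cE H83.TwEC.hA H83.TwEC.chainOK H83.TwEC.hd_pi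
  refine exists_tor6 f hq hF cE hk hqe (H83.TwEC.chain.map Prod.fst) (WData.cyc_of hlin H83.TwEC.cycOK)
    (by rw [H83.TwEC.fN_eq, PDTwE6Num.castN3 hq1]) (coprimeC hq1) ?_
  have h1 : 2 ^ 2 ≤ q ^ 2 := Nat.pow_le_pow_left hq.two_le 2
  exact Nat.mul_ne_zero (by omega) (by omega)

theorem regC {q : ℕ} (hq1 : 1 ≤ q) {r : ℕ} (hr : r.Prime) (hr5 : 5 < r) (hrN : r ∣ q ^ 4 + 1) :
    (¬ r ∣ Nat.card WE) ∧ ∀ a, IsRoot cE RGDTwE6.hp.isCartan a → ¬ (r : ℤ) ∣ Gq H83.TwEC.B (q : ℤ) a := by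
  refine ⟨not_dvd_W hr (by omega) (by omega) (by omega), fun a ha => ?_⟩
  have hlin := lin_flip cE H83.TwEC.hA H83.TwEC.chainOK H83.TwEC.hd_pi
  refine WData.not_dvd_G RGDTwE6.hp cE hlin (WData.cyc_of hlin H83.TwEC.cycOK) H83.TwEC.rootOK (q := q)
    (N := (q ^ 4 + 1) * (q ^ 2 - 1)) (by rw [H83.TwEC.fN_eq, PDTwE6Num.castN3 hq1]) hr (hrN.mul_right _) (coprimeC hq1)
    (fun s hs => ?_) ha
  have hrq : (r : ℤ) ∣ 1 + (q : ℤ) ^ 4 := by
    have h1 := Int.natCast_dvd_natCast.2 hrN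
    push_cast at h1
    rwa [add_comm] at h1
  have h6 := H83.TwEC.dvd_of_G hrq s hs
  have h7 : r ∣ 2 := by exact_mod_cast h6
  have := Nat.le_of_dvd (by norm_num) h7
  omega

end

/-! ### the data of a torus -/

section

variable {k : Type u} [Field k] [IsAlgClosed k] {p e : ℕ} [Fact p.Prime] [CharP k p]
  {F : Type u} [Field F] [Fintype F] {f : F →+* k} {q : ℕ} {hq : IsPrimePow q} {hF : Fintype.card F = q ^ 2}

/-- the data of a torus with a primitive prime `l` -/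
structure TD (f : F →+* k) (hq : IsPrimePow q) (hF : Fintype.card F = q ^ 2) (p e : ℕ) [Fact p.Prime] [CharP k p]
    (B : Fin 6 → Fin 6 → ℤ) (N c l : ℕ) (z t : ↥(chevE6.group k)) (u : k) (x0 x1 : ↥(twistedE6 F q)) : Prop where
  T : Tor6 f hq hF cE p e B N (Nat.gcd 3 (q + 1)) z t u x0
  N0 : N ≠ 0
  hW : ¬ l ∣ Nat.card WE
  hreg : ∀ a, IsRoot cE RGDTwE6.hp.isCartan a → ¬ (l : ℤ) ∣ Gq B (q : ℤ) a
  mem : x1 ∈ Subgroup.zpowers x0
  cent : Subgroup.centralizer {x1} = Subgroup.zpowers x0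
  iso : Iso1 ↥(twistedE6 F q) l x1 c
  card : Nat.card ↥(Subgroup.zpowers x0) * Nat.gcd 3 (q + 1) = N
  stab : Nat.card ↥(MulAction.stabilizer (MulAut ↥(twistedE6 F q)) x1) ≤ 2 * N

/-- **Existence.** -/
theorem mkTD (hqe : q = p ^ e) (he : 1 ≤ e) {B : Fin 6 → Fin 6 → ℤ} {N d' : ℕ} {z t : ↥(chevE6.group k)} {u : k}
    {x0 : ↥(twistedE6 F q)} (T1 : Tor6 f hq hF cE p e B N d' z t u x0) (hN0 : N ≠ 0) {M : ℕ}
    (hM : q ^ 36 * (q ^ 2 - 1) * (q ^ 5 + 1) * (q ^ 6 - 1) * (q ^ 8 - 1) * (q ^ 9 + 1) * (q ^ 12 - 1) = N * M)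
    {l : ℕ} (hl : l.Prime) (hl3 : l ≠ 3) (hlN : l ∣ N) (hW : ¬ l ∣ Nat.card WE)
    (hreg : ∀ a, IsRoot cE RGDTwE6.hp.isCartan a → ¬ (l : ℤ) ∣ Gq B (q : ℤ) a)
    {c' m' : ℕ} (hc' : 0 < c') (hcl' : c' < l) (hmod' : M ≡ 3 * c' [MOD l]) (hm' : orderOf ((q ^ 2 : ℕ) : ZMod l) = m')
    (hmc' : ¬ m' ∣ c')
    {c m : ℕ} (hc : 0 < c) (hcl : c < l) (hmod : M ≡ c [MOD l]) (hord : orderOf (p : ZMod l) = m) (hm0 : 0 < m)
    (hcm : c * e ≤ m) : ∃ x1, TD f hq hF p e B N c l z t u x0 x1 := by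
  have hd := exact T1 hN0 hM hl hl3 hlN hW hreg hc' hcl' hmod' hm' hmc'
  subst hd
  have hd0 : 0 < Nat.gcd 3 (q + 1) := Nat.gcd_pos_of_pos_left _ (by norm_num)
  obtain ⟨n, hn⟩ := T1.hdN
  have hNd : N / Nat.gcd 3 (q + 1) = n := by rw [hn, Nat.mul_div_cancel_left _ hd0]
  have hn0 : n ≠ 0 := by rintro rfl; rw [mul_zero] at hn; exact hN0 hn
  have hx0o : orderOf x0 = n := by rw [T1.hord, hNd]
  have hln : l ∣ n := by
    rw [hn] at hlN
    rcases hl.dvd_mul.1 hlN with h | h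
    · exfalso
      have h3 : l ∣ 3 := h.trans (Nat.gcd_dvd_left _ _)
      exact hl3 ((Nat.prime_dvd_prime_iff_eq hl Nat.prime_three).1 h3)
    · exact h
  obtain ⟨j, hj⟩ := hln
  have hj0 : j ≠ 0 := by rintro rfl; rw [mul_zero] at hj; exact hn0 hj
  have hx1l : orderOf (x0 ^ j) = l := by
    rw [orderOf_pow_of_dvd hj0 (by rw [hx0o, hj]; exact Dvd.intro_left _ rfl), hx0o, hj,
      Nat.mul_div_cancel _ (Nat.pos_of_ne_zero hj0)]
  have hmem : x0 ^ j ∈ Subgroup.zpowers x0 := Subgroup.npow_mem_zpowers x0 j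
  have hT := (T1.hcent (x0 ^ j) hmem l hl (by rw [hx1l]) hW hreg).1
  have hcyc : IsCyclic ↥(Subgroup.zpowers x0) := inferInstance
  have hidx : (Subgroup.zpowers x0).index = M := Nat.eq_of_mul_eq_mul_left hd0 (index_eq T1 hN0 hM)
  have hcard : Nat.card ↥(Subgroup.zpowers x0) * Nat.gcd 3 (q + 1) = N := by
    rw [Nat.card_zpowers, hx0o, hn, mul_comm]
  obtain ⟨hsim, hna⟩ := S1070.result hq hF
  have hZ : Subgroup.center ↥(twistedE6 F q) = ⊥ := center_eq_bot hna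
  have hcF : CharP F p := RingHom.charP f f.injective p
  have hout := index_out hqe he hF
  obtain ⟨b, hb⟩ := T1.hfield
  have hbx : b (x0 ^ j) = (x0 ^ j) ^ p := by rw [map_pow, hb, ← pow_mul, ← pow_mul, mul_comm]
  have hstab := card_fix_le hl hx1l hT hcyc hZ hc hcl (by rw [hidx]; exact hmod) hbx hord
    (d := 2 * Nat.gcd 3 (q + 1)) (by rw [hout]; nlinarith) hm0
  refine ⟨x0 ^ j, T1, hN0, hW, hreg, hmem, hT, ⟨hl, hx1l, by rw [hT]; exact hcyc, hc, hcl, by rw [hT, hidx]; exact hmod⟩,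
    hcard, ?_⟩
  rw [← hcard]
  calc Nat.card ↥(MulAction.stabilizer (MulAut ↥(twistedE6 F q)) (x0 ^ j))
      ≤ 2 * Nat.gcd 3 (q + 1) * Nat.card ↥(Subgroup.zpowers x0) := hstab
    _ = _ := by ring

variable {B B2 : Fin 6 → Fin 6 → ℤ} {N N2 c c2 l l2 : ℕ} {z t z2 t2 : ↥(chevE6.group k)} {u u2 : k}
  {x0 x1 x02 x12 : ↥(twistedE6 F q)}

/-- **Elements of the first torus commuting with an element of the second torus** -/
theorem eq_one (hqe : q = p ^ e) (D1 : TD f hq hF p e B N c l z t u x0 x1)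
    (D2 : TD f hq hF p e B2 N2 c2 l2 z2 t2 u2 x02 x12) (hgcd : Nat.gcd N N2 ∣ 3)
    (hne : Nat.gcd N N2 = 1 ∨ Nat.card {r : Fin chevE6.nroots // ¬ (3 : ℤ) ∣ Gq B q (vec chevE6 6 r)} ≠
      Nat.card {r : Fin chevE6.nroots // ¬ (3 : ℤ) ∣ Gq B2 q (vec chevE6 6 r)})
    {y' : ↥(twistedE6 F q)} (hy' : orderOf y' = l2) {i : ℤ}
    (h : (z * t ^ i * z⁻¹) * embT f hq hF y' = embT f hq hF y' * (z * t ^ i * z⁻¹)) : t ^ i = 1 := by
  classical
  obtain ⟨s, -, j, hj⟩ := D2.iso.conj hy'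
  have hj' : y' ^ j = s * x12 * s⁻¹ := hj
  set g := z * t ^ i * z⁻¹ with hg
  set e0 := embT f hq hF with he0
  have h1 : g * e0 (s * x12 * s⁻¹) = e0 (s * x12 * s⁻¹) * g := by
    rw [← hj', map_zpow]
    exact ((show Commute g (e0 y') from h).zpow_right j).eq
  have h2 : ((e0 s)⁻¹ * g * e0 s) * e0 x12 = e0 x12 * ((e0 s)⁻¹ * g * e0 s) := by
    rw [map_mul, map_mul, map_inv] at h1
    calc ((e0 s)⁻¹ * g * e0 s) * e0 x12 = (e0 s)⁻¹ * (g * (e0 s * e0 x12 * (e0 s)⁻¹)) * e0 s := by group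
      _ = (e0 s)⁻¹ * (e0 s * e0 x12 * (e0 s)⁻¹ * g) * e0 s := by rw [h1]
      _ = _ := by group
  have h3 := (D2.T.hcent x12 D2.mem l2 D2.iso.prime (by rw [D2.iso.ord]) D2.hW D2.hreg).2 _ h2
  set w := z2⁻¹ * ((e0 s)⁻¹ * g * e0 s) * z2 with hw
  have h4 : z2 * w * z2⁻¹ = (e0 s)⁻¹ * g * e0 s := by rw [hw]; group
  have h5 : w ∈ Subgroup.zpowers t2 := by
    rw [← D2.T.hfix w h3, h4, map_mul, map_mul, map_inv, he0, tau_embT f hqe hq hF, hg, tau_T D1.T]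
  obtain ⟨j', hj'⟩ := h5
  have hj'' : t2 ^ j' = w := hj'
  have key : t ^ i = (z⁻¹ * e0 s * z2) * t2 ^ j' * (z⁻¹ * e0 s * z2)⁻¹ := by
    rw [hj'', hw, hg]
    group
  rcases hne with hne | hne
  · have ho : orderOf (t ^ i) = orderOf (t2 ^ j') := by
      rw [key]
      exact orderOf_injective (MulAut.conj (z⁻¹ * e0 s * z2)).toMonoidHom (MulAut.conj _).injective (t2 ^ j')
    have h6 : orderOf (t ^ i) ∣ 1 := by
      rw [← hne]
      refine Nat.dvd_gcd ?_ ?_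
      · rw [← D1.T.htN]; exact orderOf_dvd_of_mem_zpowers (Subgroup.zpow_mem_zpowers t i)
      · rw [ho, ← D2.T.htN]; exact orderOf_dvd_of_mem_zpowers (Subgroup.zpow_mem_zpowers t2 j')
    rw [← orderOf_eq_one_iff]
    exact Nat.dvd_one.1 h6
  · exact eq_one_of_conj RGDTwE6.hp D1.T.ht D2.T.ht D1.T.hu D2.T.hu D1.T.hcX D2.T.hcX D1.T.htN D2.T.htN hgcd hne key

/-- **The automorphisms of odd order fixing `x1`**, if the torus acts faithfully. -/
theorem fix_form (D1 : TD f hq hF p e B N c l z t u x0 x1) (hqe : q = p ^ e)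
    {y : ↥(twistedE6 F q)}
    (hsec : ∀ i : ℤ, (z * t ^ i * z⁻¹) * embT f hq hF y = embT f hq hF y * (z * t ^ i * z⁻¹) → t ^ i = 1)
    {a : MulAut ↥(twistedE6 F q)} (ha : a x1 = x1) (hao : Odd (orderOf a)) :
    ∃ i : ℤ, ∀ y, embT f hq hF (a y) = (z * t ^ i * z⁻¹) * embT f hq hF y * (z * t ^ i * z⁻¹)⁻¹ := by
  classical
  set G : ℤ → ↥(chevE6.group k) := fun i => z * t ^ i * z⁻¹ with hG
  have hGm : ∀ i j, G (i + j) = G i * G j := by
    intro i j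
    simp only [hG]
    rw [zpow_add]
    group
  have hGi : ∀ i, G (-i) = (G i)⁻¹ := by
    intro i
    simp only [hG]
    rw [zpow_neg]
    group
  have hG0 : G 0 = 1 := by
    simp only [hG]
    rw [zpow_zero]
    group
  set e0 := embT f hq hF with he0
  have hA : ∀ i : ℤ, ∃ b : MulAut ↥(twistedE6 F q), ∀ y, e0 (b y) = G i * e0 y * (G i)⁻¹ := by
    intro i
    refine H83.TorAut.exists_aut (embT_injective f hq hF) (θ := fun y => G i * y * (G i)⁻¹)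
      (fun a b => by group) (fun a b h => ?_) (fun y => tau_normal f hqe hq hF (tau_T D1.T i) ⟨y, rfl⟩)
    exact mul_left_cancel (mul_right_cancel h)
  choose A hA using hA
  let 𝒜 : Subgroup (MulAut ↥(twistedE6 F q)) :=
    { carrier := {b | ∃ i : ℤ, ∀ y, e0 (b y) = G i * e0 y * (G i)⁻¹}
      one_mem' := ⟨0, fun y => by rw [hG0]; simp⟩
      mul_mem' := by
        rintro b b' ⟨i, hi⟩ ⟨i', hi'⟩
        refine ⟨i + i', fun y => ?_⟩
        rw [MulAut.mul_apply, hi, hi', hGm]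
        group
      inv_mem' := by
        rintro b ⟨i, hi⟩
        refine ⟨-i, fun y => ?_⟩
        have h1 := hi (b⁻¹ y)
        rw [MulAut.apply_inv_self] at h1
        rw [hGi, h1]
        group }
  have hmem : ∀ b, b ∈ 𝒜 ↔ ∃ i : ℤ, ∀ y, e0 (b y) = G i * e0 y * (G i)⁻¹ := fun b => Iff.rfl
  have hAx : ∀ b ∈ 𝒜, b x1 = x1 := by
    rintro b ⟨i, hi⟩
    obtain ⟨j, hj⟩ := D1.mem
    have hj' : x0 ^ j = x1 := hj
    apply embT_injective f hq hF
    show e0 (b x1) = e0 x1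
    rw [hi, ← hj', map_zpow, he0, D1.T.hx0]
    have h1 : G i * (z * t ^ Nat.gcd 3 (q + 1) * z⁻¹) = (z * t ^ Nat.gcd 3 (q + 1) * z⁻¹) * G i := by
      have h2 : t ^ i * t ^ Nat.gcd 3 (q + 1) = t ^ Nat.gcd 3 (q + 1) * t ^ i :=
        ((Commute.refl t).zpow_left i).pow_right _
      calc G i * (z * t ^ Nat.gcd 3 (q + 1) * z⁻¹) = z * (t ^ i * t ^ Nat.gcd 3 (q + 1)) * z⁻¹ := by
            simp only [hG]
            group
        _ = _ := by
            rw [h2]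
            simp only [hG]
            group
    have h3 := ((show Commute (G i) (z * t ^ Nat.gcd 3 (q + 1) * z⁻¹) from h1).zpow_right j).eq
    rw [h3, mul_inv_cancel_right]
  have hle : 𝒜 ≤ MulAction.stabilizer (MulAut ↥(twistedE6 F q)) x1 := fun b hb => by
    rw [MulAction.mem_stabilizer_iff]
    exact hAx b hb
  -- `N ≤ |𝒜|`
  have hcard : N ≤ Nat.card ↥𝒜 := by
    let Φ : Fin N → ↥𝒜 := fun i => ⟨A ((i : ℕ) : ℤ), ⟨_, hA _⟩⟩
    have hΦ : Function.Injective Φ := by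
      intro i j h
      have h1 : A ((i : ℕ) : ℤ) = A ((j : ℕ) : ℤ) := congrArg Subtype.val h
      have h2 : G ((i : ℕ) : ℤ) * e0 y * (G ((i : ℕ) : ℤ))⁻¹ = G ((j : ℕ) : ℤ) * e0 y * (G ((j : ℕ) : ℤ))⁻¹ := by
        rw [← hA, ← hA, h1]
      have h3 := hsec (((i : ℕ) : ℤ) - ((j : ℕ) : ℤ)) (by
        change G (((i : ℕ) : ℤ) - ((j : ℕ) : ℤ)) * e0 y = e0 y * G (((i : ℕ) : ℤ) - ((j : ℕ) : ℤ))
        have e1 : G (((i : ℕ) : ℤ) - ((j : ℕ) : ℤ)) = (G ((j : ℕ) : ℤ))⁻¹ * G ((i : ℕ) : ℤ) := by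
          rw [← hGi, ← hGm]
          congr 1
          ring
        rw [e1]
        set gi := G ((i : ℕ) : ℤ) with hgi
        set gj := G ((j : ℕ) : ℤ) with hgj
        calc gj⁻¹ * gi * e0 y = gj⁻¹ * (gi * e0 y * gi⁻¹) * gi := by group
          _ = gj⁻¹ * (gj * e0 y * gj⁻¹) * gi := by rw [h2]
          _ = _ := by group)
      rw [← orderOf_dvd_iff_zpow_eq_one, D1.T.htN] at h3
      have hi := i.2
      have hj := j.2
      apply Fin.ext
      have h4 : ((i : ℕ) : ℤ) - ((j : ℕ) : ℤ) = 0 := by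
        apply Int.eq_zero_of_abs_lt_dvd h3
        rw [abs_lt]
        constructor <;> omega
      omega
    have h1 := Nat.card_le_card_of_injective Φ hΦ
    rwa [Nat.card_eq_fintype_card, Fintype.card_fin] at h1
  -- the index is at most two
  have haS : a ∈ MulAction.stabilizer (MulAut ↥(twistedE6 F q)) x1 := by
    rw [MulAction.mem_stabilizer_iff]
    exact ha
  set St := MulAction.stabilizer (MulAut ↥(twistedE6 F q)) x1 with hSt
  have hidx : (𝒜.subgroupOf St).index = 1 ∨ (𝒜.subgroupOf St).index = 2 := by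
    have h1 := (𝒜.subgroupOf St).card_mul_index
    have h2 : Nat.card ↥(𝒜.subgroupOf St) = Nat.card ↥𝒜 := Nat.card_congr (Subgroup.subgroupOfEquivOfLe hle).toEquiv
    rw [h2] at h1
    have h3 : Nat.card ↥𝒜 * (𝒜.subgroupOf St).index ≤ Nat.card ↥𝒜 * 2 := by
      rw [h1, mul_comm]
      exact D1.stab.trans (Nat.mul_le_mul_left 2 hcard)
    have h4 : (𝒜.subgroupOf St).index ≤ 2 := Nat.le_of_mul_le_mul_left h3 Nat.card_pos
    have h5 : (𝒜.subgroupOf St).index ≠ 0 := Subgroup.index_ne_zero_of_finite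
    omega
  have hsq : a ^ 2 ∈ 𝒜 := by
    have h1 : (⟨a, haS⟩ : ↥St) ^ 2 ∈ 𝒜.subgroupOf St := by
      rcases hidx with h | h
      · rw [Subgroup.index_eq_one.1 h]
        exact Subgroup.mem_top _
      · exact Subgroup.sq_mem_of_index_two h _
    exact h1
  obtain ⟨n, hn⟩ := hao
  have h1 : a = (a ^ 2) ^ (n + 1) := by
    rw [← pow_mul, show 2 * (n + 1) = (2 * n + 1) + 1 by ring, pow_succ, ← hn, pow_orderOf_eq_one, one_mul]
  have h2 : a ∈ 𝒜 := by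
    rw [h1]
    exact pow_mem hsq _
  exact h2

/-- **`Inc`** -/
theorem inc (hqe : q = p ^ e) (D1 : TD f hq hF p e B N c l z t u x0 x1)
    (D2 : TD f hq hF p e B2 N2 c2 l2 z2 t2 u2 x02 x12) (hgcd : Nat.gcd N N2 ∣ 3)
    (hne : Nat.gcd N N2 = 1 ∨ Nat.card {r : Fin chevE6.nroots // ¬ (3 : ℤ) ∣ Gq B q (vec chevE6 6 r)} ≠
      Nat.card {r : Fin chevE6.nroots // ¬ (3 : ℤ) ∣ Gq B2 q (vec chevE6 6 r)}) :
    Inc ↥(twistedE6 F q) l l2 := by
  intro b hb hb2 x hx hbx y hy hby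
  obtain ⟨s, -, j, hj⟩ := D1.iso.conj hx
  have hj' : x ^ j = s * x1 * s⁻¹ := hj
  set g : MulAut ↥(twistedE6 F q) := MulAut.conj s⁻¹ with hg
  have hgx : g⁻¹ x1 = x ^ j := by
    rw [hj', hg, ← map_inv, inv_inv, MulAut.conj_apply]
  have h1 : (g * b * g⁻¹) x1 = x1 := by
    rw [MulAut.mul_apply, MulAut.mul_apply, hgx, map_zpow, hbx, ← hgx, MulAut.apply_inv_self]
  have h2 : (g * b * g⁻¹) (g y) = g y := by
    rw [MulAut.mul_apply, MulAut.mul_apply, MulAut.inv_apply_self, hby]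
  have ho : orderOf (g * b * g⁻¹) = orderOf b :=
    orderOf_injective (MulAut.conj g).toMonoidHom (MulAut.conj g).injective b
  have hyo : orderOf (g y) = l2 := by rw [MulEquiv.orderOf_eq, hy]
  have hsec := fun (i : ℤ) => eq_one (i := i) hqe D1 D2 hgcd hne hyo
  obtain ⟨i, hi⟩ := fix_form D1 hqe (y := g y) hsec h1 (by rw [ho]; exact hb.odd_of_ne_two hb2)
  have h3 : t ^ i = 1 := by
    apply hsec i
    have h4 := hi (g y)
    rw [h2] at h4
    conv_rhs => rw [h4]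
    rw [inv_mul_cancel_right]
  have h5 : g * b * g⁻¹ = 1 := by
    refine MulEquiv.ext fun w => ?_
    apply embT_injective f hq hF
    show embT f hq hF ((g * b * g⁻¹) w) = embT f hq hF w
    rw [hi, h3]
    group
  rw [h5, orderOf_one] at ho
  rw [← ho] at hb
  exact Nat.not_prime_one hb

/-- **`NoOdd`** -/
theorem noOdd (D1 : TD f hq hF p e B N c l z t u x0 x1)
    (D2 : TD f hq hF p e B2 N2 c2 l2 z2 t2 u2 x02 x12) (hgcd : Nat.gcd N N2 ∣ 3) (hl3 : l ≠ 3) (hl23 : l2 ≠ 3)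
    (h1 : c < l2) (h2 : c2 < l) : NoOdd ↥(twistedE6 F q) l l2 := by
  have hln : ∀ {B : Fin 6 → Fin 6 → ℤ} {N c l : ℕ} {z t : ↥(chevE6.group k)} {u : k} {x0 x1 : ↥(twistedE6 F q)},
      TD f hq hF p e B N c l z t u x0 x1 → l ∣ Nat.card ↥(Subgroup.centralizer {x1}) ∧
        Nat.card ↥(Subgroup.centralizer {x1}) ∣ N := by
    intro B N c l z t u x0 x1 D
    constructor
    · rw [D.cent, ← D.iso.ord]
      have := orderOf_dvd_natCard (⟨x1, D.mem⟩ : ↥(Subgroup.zpowers x0))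
      rwa [Subgroup.orderOf_mk] at this
    · rw [D.cent, ← D.card]
      exact dvd_mul_right _ _
  obtain ⟨a1, a2⟩ := hln D1
  obtain ⟨b1, b2⟩ := hln D2
  have key : ∀ r : ℕ, r.Prime → r ≠ 3 → r ∣ N → r ∣ N2 → False := by
    intro r hr hr3 h3 h4
    exact hr3 ((Nat.prime_dvd_prime_iff_eq hr Nat.prime_three).1 ((Nat.dvd_gcd h3 h4).trans hgcd))
  refine D1.iso.noOdd D2.iso ?_ (fun h => key l2 D2.iso.prime hl23 (h.trans a2) (b1.trans b2))
    (fun h => key l D1.iso.prime hl3 (a1.trans a2) (h.trans b2)) h1 h2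
  rintro rfl
  exact key l D1.iso.prime hl3 (a1.trans a2) (b1.trans b2)

/-- **`Good`** -/
theorem good (hqe : q = p ^ e) (he : 1 ≤ e) (D1 : TD f hq hF p e B N c l z t u x0 x1) (hl3 : 3 < l) (hle : e < l) :
    Good ↥(twistedE6 F q) l := by
  have hcF : CharP F p := RingHom.charP f f.injective p
  refine D1.iso.good (by omega) ?_
  have hout := index_out hqe he hF
  show ¬ l ∣ (MulAut.conj : ↥(twistedE6 F q) →* MulAut ↥(twistedE6 F q)).range.index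
  rw [hout]
  intro h
  rcases D1.iso.prime.dvd_mul.1 h with h | h
  · rcases D1.iso.prime.dvd_mul.1 h with h | h
    · have := Nat.le_of_dvd (by norm_num) h
      omega
    · have := Nat.le_of_dvd (by norm_num) (h.trans (Nat.gcd_dvd_left _ _))
      omega
  · have := Nat.le_of_dvd (by omega) h
    omega

end

/-- **`Row (²E₆(q))`.** -/
theorem row_tw {F : Type u} [Field F] [Fintype F] {q : ℕ} (hq : IsPrimePow q) (hF : Fintype.card F = q ^ 2) :
    H160.PD.Row ↥(twistedE6 F q) := by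
  classical
  obtain ⟨r, e', hrF, hcF, hck, -, hre, hk⟩ := exists_closure hF
  obtain ⟨r', e, hr', he, hqe'⟩ := id hq
  have hrr : r' = r := by
    have h1 : r' ∣ r ^ e' := by
      rw [← hre, ← hqe']
      exact dvd_pow (dvd_pow_self r' he.ne') (by norm_num)
    exact (Nat.prime_dvd_prime_iff_eq hr'.nat_prime hrF.out).1 (hr'.nat_prime.dvd_of_dvd_pow h1)
  subst hrr
  have hqe : q = r' ^ e := hqe'.symm
  have hq1 := hq.one_lt.le
  obtain ⟨hsim, hna⟩ := S1070.result hq hF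
  have hZ : Subgroup.center ↥(twistedE6 F q) = ⊥ := center_eq_bot hna
  -- the primes
  obtain ⟨lA, hlA, hoA, hdA, hleA⟩ := H83.NumE6.exists_l hrF.out (f := e) (by omega)
  obtain ⟨lB, hlB, hoB, hdB, hleB⟩ := PDTwE6Num.exists_l12 hrF.out (f := e) (by omega)
  obtain ⟨lC, hlC, hoC, hdC, hleC⟩ := PDTwE6Num.exists_l8 hrF.out (f := e) (by omega)
  rw [← hqe] at hdA hdB hdC
  -- `16 < lC`
  have hlC17 : 16 < lC := by
    have hlf : Fact lC.Prime := ⟨hlC⟩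
    have h0 : ((r' : ℕ) : ZMod lC) ≠ 0 := by
      intro h0
      rw [h0, orderOf_zero] at hoC
      omega
    have h1 : orderOf ((r' : ℕ) : ZMod lC) ∣ lC - 1 := ZMod.orderOf_dvd_card_sub_one h0
    rw [hoC] at h1
    obtain ⟨j, hj⟩ := (Dvd.intro e rfl : 8 ∣ 8 * e).trans h1
    have h2 := hlC.two_le
    by_contra h3
    have h4 : lC = 9 := by omega
    rw [h4] at hlC
    norm_num at hlC
  -- the tori
  obtain ⟨dA, zA, tA, uA, xA, TA⟩ := torA (algebraMap F (AlgebraicClosure F)) hq hF hk hqe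
  obtain ⟨dB, zB, tB, uB, xB, TB⟩ := torB (algebraMap F (AlgebraicClosure F)) hq hF hk hqe
  obtain ⟨dC, zC, tC, uC, xC, TC⟩ := torC (algebraMap F (AlgebraicClosure F)) hq hF hk hqe
  obtain ⟨hWA, hrA⟩ := regA hq1 hlA hdA (by omega)
  obtain ⟨hWB, hrB⟩ := regB hq1 hlB hdB
  obtain ⟨hWC, hrC⟩ := regC hq1 hlC (by omega) hdC
  have hq4 : 2 ^ 2 ≤ q ^ 2 := Nat.pow_le_pow_left hq.two_le 2
  obtain ⟨yA, DA⟩ := mkTD hqe (by omega) TA (by omega) (H83.NumE6.eq1 hq1) hlA (by omega) hdA hWA hrA (c' := 3) (m' := 9)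
    (by norm_num) (by omega) (H83.NumE6.mod1 hq1 hdA) (by rw [hqe]; exact ord_A (by omega) hoA) (by norm_num) (c := 9)
    (by norm_num) (by omega) (H83.NumE6.mod1 hq1 hdA) hoA (by omega) (by omega)
  obtain ⟨yB, DB⟩ := mkTD hqe (by omega) TB (Nat.mul_ne_zero (by omega) (by omega)) (H83.NumE6.eq2 hq1) hlB (by omega)
    (hdB.mul_right _) hWB hrB (c' := 4) (m' := 6)
    (by norm_num) (by omega) (H83.NumE6.mod2 hq1 hdB) (ord_B hq1 hlB hdB) (by norm_num) (c := 12)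
    (by norm_num) (by omega) (H83.NumE6.mod2 hq1 hdB) hoB (by omega) (by omega)
  obtain ⟨c', hc'0, hc'l, hc'm, hc'4⟩ := PDTwE6Num.exists_c (hlC.odd_of_ne_two (by omega)) hlC17 (by
    intro h
    have := (Nat.prime_dvd_prime_iff_eq Nat.prime_three hlC).1 h
    omega)
  obtain ⟨yC, DC⟩ := mkTD hqe (by omega) TC (Nat.mul_ne_zero (by omega) (by omega)) (PDTwE6Num.eq3 hq1) hlC (by omega)
    (hdC.mul_right _) hWC hrC (c' := c') (m' := 4)
    hc'0 hc'l ((PDTwE6Num.mod3 hq1 hdC).trans hc'm) (PDTwE6Num.ord_C hlC (by omega) hdC) hc'4 (c := 8)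
    (by norm_num) (by omega) (PDTwE6Num.mod3 hq1 hdC) hoC (by omega) (by omega)
  have gAB := gcd_AB hq1
  have gAC := PDTwE6Num.gcd_AC hq1
  have gBC := PDTwE6Num.gcd_BC hq1
  -- the prime 3
  have hthree : Nat.gcd 3 (q + 1) = 3 ∨ ¬ 3 ∣ q + 1 := by
    by_cases h : 3 ∣ q + 1
    · left
      exact Nat.gcd_eq_left h
    · right
      exact h
  have one_of : ∀ {n : ℕ}, n ∣ 3 → ¬ 3 ∣ n → n = 1 := by
    intro n h1 h2
    rcases (Nat.dvd_prime Nat.prime_three).1 h1 with h | h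
    · exact h
    · exact absurd (by rw [h]) h2
  have nAB : Nat.gcd (q ^ 6 - q ^ 3 + 1) ((q ^ 4 - q ^ 2 + 1) * (q ^ 2 - q + 1)) = 1 ∨
      Nat.card {r : Fin chevE6.nroots // ¬ (3 : ℤ) ∣ Gq H83.TwEA.B q (vec chevE6 6 r)} ≠
        Nat.card {r : Fin chevE6.nroots // ¬ (3 : ℤ) ∣ Gq H83.TwEB.B q (vec chevE6 6 r)} := by
    rcases hthree with h | h
    · right
      have h3 := gcd_three h
      rw [count h3 H83.TwEA.card_three, count h3 H83.TwEB.card_three]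
      norm_num
    · left
      exact one_of gAB fun h' => h (PDTwE6Num.three_N1 hq1 (h'.trans (Nat.gcd_dvd_left _ _)))
  have nAC : Nat.gcd (q ^ 6 - q ^ 3 + 1) ((q ^ 4 + 1) * (q ^ 2 - 1)) = 1 ∨
      Nat.card {r : Fin chevE6.nroots // ¬ (3 : ℤ) ∣ Gq H83.TwEA.B q (vec chevE6 6 r)} ≠
        Nat.card {r : Fin chevE6.nroots // ¬ (3 : ℤ) ∣ Gq H83.TwEC.B q (vec chevE6 6 r)} := by
    rcases hthree with h | h
    · right
      have h3 := gcd_three h
      rw [count h3 H83.TwEA.card_three, count h3 H83.TwEC.card_three]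
      norm_num
    · left
      exact one_of gAC fun h' => h (PDTwE6Num.three_N1 hq1 (h'.trans (Nat.gcd_dvd_left _ _)))
  have nBC : Nat.gcd ((q ^ 4 - q ^ 2 + 1) * (q ^ 2 - q + 1)) ((q ^ 4 + 1) * (q ^ 2 - 1)) = 1 ∨
      Nat.card {r : Fin chevE6.nroots // ¬ (3 : ℤ) ∣ Gq H83.TwEB.B q (vec chevE6 6 r)} ≠
        Nat.card {r : Fin chevE6.nroots // ¬ (3 : ℤ) ∣ Gq H83.TwEC.B q (vec chevE6 6 r)} := by
    rcases hthree with h | h
    · right
      have h3 := gcd_three h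
      rw [count h3 H83.TwEB.card_three, count h3 H83.TwEC.card_three]
      norm_num
    · left
      exact one_of gBC fun h' => h (PDTwE6Num.three_N2 hq1 (h'.trans (Nat.gcd_dvd_left _ _)))
  exact H160.PD.row_three hZ (good hqe (by omega) DA (by omega) (by omega)) (good hqe (by omega) DB (by omega) (by omega))
    (good hqe (by omega) DC (by omega) (by omega))
    (noOdd DA DB gAB (by omega) (by omega) (by omega) (by omega))
    (noOdd DA DC gAC (by omega) (by omega) (by omega) (by omega))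
    (noOdd DB DC gBC (by omega) (by omega) (by omega) (by omega))
    (inc hqe DA DB gAB nAB) (inc hqe DA DC gAC nAC) (inc hqe DB DC gBC nBC)

/-- **The row of `²E₆(q)` for S4246.** -/
theorem row_2e6 (K : Type u) [Group K] (h : Iso2E6 K) : H160.PD.Row K := by
  obtain ⟨F, _, _, q, hq, hF, ⟨e⟩⟩ := h
  exact (row_tw hq hF).congr e

end Cfsg.Agent.H29.PDTwE6
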