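import Cfsg.Agent.H29.FourHeis
import Cfsg.Agent.H348.PPD.Half
import Cfsg.Agent.J2Sylow.SporSylow
import Cfsg.Agent.OddHalf.Table.OutJ2
import Cfsg.Agent.S2066
import Cfsg.Agent.S1620

/-!
# `J₂` : a character of prime power degree extends to the automorphism group

The only possible degree of a noninvariant character of prime power degree is 7; there is no faithful representation of
degree less than 8 (`FourHeis`).
-/

set_option autoImplicit false

open Cfsg Subgroup
open Cfsg.Agent.Characters.Core Cfsg.Agent.H794.PP Cfsg.Agent.H29.MinExt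
open Cfsg.Agent.H348.PPD.Aut Cfsg.Agent.H348.PPD.Crit
open Cfsg.Agent.J2.HundredGens Cfsg.Agent.J2Sylow.SporSylow

namespace Cfsg.Agent.H29.RowJ2

universe u

/-- the group on 100 points -/
abbrev X : Type := ↥Cfsg.Agent.SporadicA.J2Hundred.G

def wu : List ℕ := [0]
def wv : List ℕ := [2]
def wx : List ℕ := [1, 2, 0, 1, 0, 1]
def wa : List ℕ := [4]
def wb : List ℕ := [1, 0, 1, 2, 3, 0, 1, 2, 3, 4, 3, 2, 3, 1, 2, 0, 1, 0, 1]
def wc : List ℕ := [3, 2, 3, 4, 3, 2, 3]
def wd : List ℕ := [3, 2, 3, 1, 0, 1, 2, 3, 0, 1, 2, 3, 4, 3, 2, 3, 1, 2, 3, 0, 1, 0, 1, 2, 3]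

theorem gw_mul (L M : List ℕ) : gw L * gw M = gw (L ++ M) := Subtype.ext (pw_mul L M)

theorem gw_one : gw [] = 1 := Subtype.ext pw_nil

theorem gw_eq {L M : List ℕ} (h : chk L M = true) : gw L = gw M := Subtype.ext (pw_eq h)

theorem rels : FourHeis.Rels (gw wu) (gw wv) (gw wx) (gw wa) (gw wb) (gw wc) (gw wd) where
  uu := by rw [gw_mul, ← gw_one]; exact gw_eq (by decide +kernel)
  vv := by rw [gw_mul, ← gw_one]; exact gw_eq (by decide +kernel)
  uv := by simp only [gw_mul]; exact gw_eq (by decide +kernel)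
  xu := by simp only [gw_mul]; exact gw_eq (by decide +kernel)
  xv := by simp only [gw_mul]; exact gw_eq (by decide +kernel)
  a₁u := by simp only [gw_mul]; exact gw_eq (by decide +kernel)
  a₁v := by simp only [gw_mul]; exact gw_eq (by decide +kernel)
  b₁u := by simp only [gw_mul]; exact gw_eq (by decide +kernel)
  b₁v := by simp only [gw_mul]; exact gw_eq (by decide +kernel)
  a₂u := by simp only [gw_mul]; exact gw_eq (by decide +kernel)
  a₂v := by simp only [gw_mul]; exact gw_eq (by decide +kernel)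
  b₂u := by simp only [gw_mul]; exact gw_eq (by decide +kernel)
  b₂v := by simp only [gw_mul]; exact gw_eq (by decide +kernel)
  ab₁ := by simp only [gw_mul]; exact gw_eq (by decide +kernel)
  ab₂ := by simp only [gw_mul]; exact gw_eq (by decide +kernel)
  aa := by simp only [gw_mul]; exact gw_eq (by decide +kernel)
  ab := by simp only [gw_mul]; exact gw_eq (by decide +kernel)
  ba := by simp only [gw_mul]; exact gw_eq (by decide +kernel)

theorem wu_ne : gw wu ≠ 1 := fun h => ne_one (L := wu) (by decide +kernel) (congrArg Subtype.val h)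

theorem card_X : Nat.card X = 604800 := by
  obtain ⟨e⟩ := J2_iso card_J2
  rw [← Nat.card_congr e.toEquiv, card_J2]

theorem simple_X : IsSimpleGroup X := by
  obtain ⟨e⟩ := J2_iso card_J2
  have : IsSimpleGroup Spor.J2 := Cfsg.Agent.S1620.result.1
  exact e.symm.isSimpleGroup

theorem card_out_X : Nat.card (Cfsg.Out X) = 2 := by
  obtain ⟨e⟩ := J2_iso card_J2
  rw [← H55.OutGen.card_out_congr e]
  exact Cfsg.Agent.S2066.result

theorem cent_seven : ∃ x : X, orderOf x = 7 ∧ Nat.card (centralizer ({x} : Set X)) = 7 := by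
  let y : X := ⟨Cfsg.Agent.OddHalf.Table.OutJ2.x, Cfsg.Agent.OddHalf.Table.OutJ2.x_mem⟩
  have ho : orderOf y = 7 := by
    rw [Subgroup.orderOf_mk]
    exact Cfsg.Agent.OddHalf.Table.OutJ2.order_x
  refine ⟨y, ho, ?_⟩
  have h : centralizer ({y} : Set X) = zpowers y := by
    apply le_antisymm
    · intro c hc
      obtain ⟨i, hi⟩ := Cfsg.Agent.OddHalf.Table.OutJ2.cent_x c.2
        (congrArg Subtype.val (mem_centralizer_singleton_iff.1 hc))
      have h1 : y ^ (i : ℤ) = c := Subtype.ext (by rw [zpow_natCast, Subgroup.coe_pow]; exact hi.symm)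
      exact ⟨i, h1⟩
    · exact zpowers_le.2 (mem_centralizer_singleton_iff.2 rfl)
  rw [h, Nat.card_zpowers, ho]

theorem not_bad (hc : center X = ⊥) (hidx : (MulAut.conj : X →* MulAut X).range.index = 2) (d : ℕ)
    (hd : IsPrimePow d) (B : BadData X d) : False := by
  have hn := card_X
  have hfin : Finite X := Nat.finite_of_card_ne_zero (by rw [hn]; norm_num)
  obtain ⟨x, hx, hcx⟩ := cent_seven
  have hm := deg_mem B hd hn [(2, 7), (3, 3), (5, 2), (7, 1)] (by
      intro q hq
      simp only [List.mem_cons, List.not_mem_nil, or_false] at hq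
      rcases hq with rfl | rfl | rfl | rfl <;> norm_num) (by simp) (by decide +kernel)
  have k1 := okOne_of hc hidx (by norm_num) (by norm_num) hn (by norm_num) hx hcx B
  have key : ∀ d ∈ ppDivs [(2, 7), (3, 3), (5, 2), (7, 1)], okOne 604800 7 d = true → d = 7 := by decide +kernel
  have hd7 := key d hm k1
  subst hd7
  obtain ⟨n, ρ, hρ, hχ⟩ := B.χ.2
  have h1 : (n : ℂ) = 7 := by
    have h2 := B.deg
    rw [← hχ] at h2
    rw [Representation.char_one] at h2
    simpa using h2
  have h2 : n = 7 := by exact_mod_cast h1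
  subst h2
  have h3 := FourHeis.eq_one_of_lt (ρ := ρ) rels (by simp)
  have h4 : (B.χ : X → ℂ) (gw wu) = (B.χ : X → ℂ) 1 := by
    rw [← hχ]
    change LinearMap.trace ℂ _ (ρ (gw wu)) = LinearMap.trace ℂ _ (ρ 1)
    rw [h3, map_one ρ]
  exact wu_ne (H348.PPD.Half.faithful simple_X B.χ.2 (by rw [B.deg]; norm_num) h4)

theorem row {S : Type u} [Group S] [Finite S] [IsSimpleGroup S] (hna : ¬ IsMulCommutative S) (h : Spor.IsoJ2 S)
    (hp : HasPP S) : ExtPP S := by
  obtain ⟨e⟩ := J2_iso card_J2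
  obtain ⟨f⟩ := h
  exact H348.PPD.Rows.row_two card_out_X not_bad hna (f.trans e) hp

end Cfsg.Agent.H29.RowJ2
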