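import Cfsg.Agent.H29.ElemBound
import Cfsg.Agent.H348.PPD.Half
import Cfsg.Agent.H848.McLLocal
import Cfsg.Agent.S2073

/-!
# `McL` : a character of prime power degree extends to the automorphism group

The only possible degree of a noninvariant character of prime power degree is 11; an elementary abelian group of order
16, with all involutions conjugate in `McL`, excludes it.
-/

set_option autoImplicit false

open Cfsg Subgroup
open Cfsg.Agent.Characters.Core Cfsg.Agent.H794.PP Cfsg.Agent.H29.MinExt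
open Cfsg.Agent.H348.PPD.Aut Cfsg.Agent.H348.PPD.Crit

namespace Cfsg.Agent.H29.RowMcL

universe u

theorem not_bad (hc : center Spor.McL = ⊥)
    (hidx : (MulAut.conj : Spor.McL →* MulAut Spor.McL).range.index = 2) (d : ℕ) (hd : IsPrimePow d)
    (B : BadData Spor.McL d) : False := by
  obtain ⟨hfin, hs, hn, -⟩ := Cfsg.Agent.H848.McLLocal.facts
  obtain ⟨x, hx, hcx⟩ := Cfsg.Agent.H848.McLLocal.mcl_eleven
  obtain ⟨y, hy, hcy⟩ := Cfsg.Agent.H848.McLLocal.mcl_seven
  have hm := deg_mem B hd hn [(2, 7), (3, 6), (5, 3), (7, 1), (11, 1)] (by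
      intro q hq
      simp only [List.mem_cons, List.not_mem_nil, or_false] at hq
      rcases hq with rfl | rfl | rfl | rfl | rfl <;> norm_num) (by simp) (by decide +kernel)
  have k1 := okOne_of hc hidx (by norm_num) (by norm_num) hn (by norm_num) hx hcx B
  have k2 := okTwo_of hc hidx (r := 7) (by norm_num) (by norm_num) hn (by norm_num) hy hcy (by decide) (by decide) B
  have key : ∀ d ∈ ppDivs [(2, 7), (3, 6), (5, 3), (7, 1), (11, 1)],
      okOne 898128000 11 d = true → okTwo 7 d = true → d = 11 := by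
    decide +kernel
  have hd11 := key d hm k1 k2
  subst hd11
  obtain ⟨E, hE, hE2⟩ := Cfsg.Agent.H848.McLLocal.mcl_E
  have ho : ∀ a ∈ E, a ≠ 1 → orderOf a = 2 := fun a ha ha1 =>
    orderOf_eq_prime (by rw [pow_two]; exact hE2 a ha) ha1
  obtain ⟨z, hz, hz1⟩ : ∃ z ∈ E, z ≠ 1 := by
    have h1 : Nontrivial E := Finite.one_lt_card_iff_nontrivial.1 (by rw [hE]; norm_num)
    obtain ⟨z, hz⟩ := exists_ne (1 : E)
    exact ⟨z, z.2, fun h => hz (Subtype.ext h)⟩
  obtain ⟨a, b, hb, h1, -⟩ := ElemBound.pure B.χ.2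
    (fun x hx => H348.PPD.Half.faithful hs B.χ.2 (by rw [B.deg]; norm_num) hx) B.deg E
    (fun a ha b hb => by
      have h1 := hE2 (a * b) (E.mul_mem ha hb)
      have h2 := hE2 a ha
      have h3 := hE2 b hb
      have ha' : a⁻¹ = a := inv_eq_of_mul_eq_one_left h2
      have hb' : b⁻¹ = b := inv_eq_of_mul_eq_one_left h3
      have hab : (a * b)⁻¹ = a * b := inv_eq_of_mul_eq_one_left h1
      rw [← hab, mul_inv_rev, ha', hb'])
    hz1 (by rw [hE]; norm_num)
    (fun a ha ha1 => Cfsg.Agent.H848.McLLocal.mcl_invol a z (ho a ha ha1) (ho z hz hz1))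
  rw [hE] at h1
  omega

theorem row {S : Type u} [Group S] [Finite S] [IsSimpleGroup S] (hna : ¬ IsMulCommutative S) (h : Spor.IsoMcL S)
    (hp : HasPP S) : ExtPP S :=
  H348.PPD.Rows.row_two Cfsg.Agent.S2073.result not_bad hna h.some hp

end Cfsg.Agent.H29.RowMcL
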