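import Cfsg.Agent.H29.TitsHom
import Cfsg.Agent.H29.MinExt
import Cfsg.Agent.S0886
import Cfsg.Agent.Omega.TwoF.TitsAut
import Cfsg.Agent.H867.TitsOut

/-!
# The Tits group has an irreducible character of degree 27 which extends to the automorphism group

* `irreducible_of_scalar` : a representation over `ℂ` whose commutant is scalar is irreducible;
* `extPP_tits` : `ExtPP` of the Tits group.
-/

set_option autoImplicit false

namespace Cfsg.Agent.H29.TitsExt

open Cfsg Cfsg.Agent.H29.TitsMat Cfsg.Agent.H29.TitsHom Cfsg.Agent.Omega.TitsIso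
  Cfsg.Agent.Omega.TitsIso.TitsSideRel Cfsg.Agent.Omega.TitsIso.TitsSide Cfsg.Agent.H29.MinExt

theorem irreducible_of_scalar {G : Type*} [Group G] [Finite G] {V : Type*} [AddCommGroup V] [Module ℂ V]
    [Nontrivial V] (ρ : Representation ℂ G V)
    (h : ∀ f : V →ₗ[ℂ] V, (∀ g v, f (ρ g v) = ρ g (f v)) → ∃ c : ℂ, ∀ v, f v = c • v) : ρ.IsIrreducible := by
  rw [CharactersDeep.InvRep.isIrreducible_iff]
  refine ⟨inferInstance, fun p hp => ?_⟩
  obtain ⟨U, hU⟩ := Characters.Core.exists_isCompl_sub (⟨p, fun g v hv => hp g v hv⟩ : Subrepresentation ρ)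
  set q := U.toSubmodule with hq
  have hpq : IsCompl p q := hU
  have hqi : ∀ g, ∀ v ∈ q, ρ g v ∈ q := fun g v hv => U.apply_mem_toSubmodule g hv
  set f := p.projection q hpq with hf
  have hfp : ∀ v ∈ p, f v = v := fun v hv => Submodule.projection_apply_left hpq ⟨v, hv⟩
  have hfq : ∀ v ∈ q, f v = 0 := fun v hv => Submodule.projection_apply_right hpq ⟨v, hv⟩
  have hfm : ∀ v, f v ∈ p := fun v => Submodule.projection_apply_mem hpq v
  obtain ⟨c, hc⟩ := h f (fun g v => by
    obtain ⟨a, ha, b, hb, rfl⟩ : ∃ a ∈ p, ∃ b ∈ q, a + b = v := by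
      have h1 : v ∈ p ⊔ q := by rw [hpq.sup_eq_top]; trivial
      exact Submodule.mem_sup.1 h1
    rw [map_add, map_add, map_add, hfp _ (hp g a ha), hfq _ (hqi g b hb), hfp a ha, hfq b hb, map_add, map_zero])
  by_cases hc0 : c = 0
  · left
    rw [eq_bot_iff]
    intro v hv
    rw [Submodule.mem_bot, ← hfp v hv, hc, hc0, zero_smul]
  · right
    rw [eq_top_iff]
    intro v _
    have h1 := hfm v
    rw [hc] at h1
    have h2 := p.smul_mem c⁻¹ h1
    rwa [smul_smul, inv_mul_cancel₀ hc0, one_smul] at h2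

/-- the representation of a homomorphism to `GL` -/
noncomputable def rep (σ : T →* GL (Fin 27) ℂ) : Representation ℂ T (Fin 27 → ℂ) :=
  ((Matrix.toLinAlgEquiv' : Matrix (Fin 27) (Fin 27) ℂ ≃ₐ[ℂ] _) : Matrix (Fin 27) (Fin 27) ℂ →* _).comp
    ((Units.coeHom _).comp σ)

theorem rep_apply (σ : T →* GL (Fin 27) ℂ) (t : T) :
    rep σ t = Matrix.toLin' (σ t : Matrix (Fin 27) (Fin 27) ℂ) := rfl

theorem character_rep (σ : T →* GL (Fin 27) ℂ) (t : T) :
    (rep σ).character t = Matrix.trace (σ t : Matrix (Fin 27) (Fin 27) ℂ) := by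
  change LinearMap.trace ℂ _ (rep σ t) = _
  rw [rep_apply, Matrix.trace_toLin'_eq]

theorem irreducible_rep {σ : T →* GL (Fin 27) ℂ} (hσ : ∀ i, σ (ZC i) = Zg i) : (rep σ).IsIrreducible := by
  apply irreducible_of_scalar
  intro f hf
  set D := LinearMap.toMatrix' f with hD
  have hfD : f = Matrix.toLin' D := by rw [hD, Matrix.toLin'_toMatrix']
  obtain ⟨c, hc⟩ := commutant phi (D := D) (fun i => by
    have h1 : f ∘ₗ Matrix.toLin' (GM phi (zc i)) = Matrix.toLin' (GM phi (zc i)) ∘ₗ f := by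
      ext1 v
      have h2 := fun w => hf (ZC (i - 1)) w
      rw [rep_apply, hσ] at h2
      have h3 : Zg (i - 1) = ZG phi i := by unfold Zg; rw [sub_add_cancel]
      rw [h3] at h2
      exact LinearMap.ext fun w => h2 _
    have h4 := congrArg LinearMap.toMatrix' h1
    rw [LinearMap.toMatrix'_comp, LinearMap.toMatrix'_comp, LinearMap.toMatrix'_toLin'] at h4
    exact h4)
  refine ⟨c, fun v => ?_⟩
  rw [hfD, hc, map_smul, Matrix.toLin'_one]
  rfl

/-- the rotated element `y 7` -/
noncomputable def X : GL (Fin 27) ℂ := RG phi * XG phi * (RG phi)⁻¹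

theorem RG_list (l : List (ZMod 8)) : RG phi * (l.map (ZG phi)).prod * (RG phi)⁻¹ = (l.map Zg).prod := by
  induction l with
  | nil => simp
  | cons a l ih =>
    rw [List.map_cons, List.map_cons, List.prod_cons, List.prod_cons, ← ih]
    have h1 : Zg a = RG phi * ZG phi a * (RG phi)⁻¹ := by
      rw [TitsMat.R_mul, mul_inv_cancel_right]
      rfl
    rw [h1]
    group

theorem X_mul (i : ZMod 8) : X * Zg i = ((c7.getD i.val []).map Zg).prod * X := by
  have h1 : Zg i = RG phi * ZG phi i * (RG phi)⁻¹ := by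
    rw [TitsMat.R_mul, mul_inv_cancel_right]
    rfl
  rw [← RG_list, h1]
  unfold X
  calc RG phi * XG phi * (RG phi)⁻¹ * (RG phi * ZG phi i * (RG phi)⁻¹)
      = RG phi * (XG phi * ZG phi i) * (RG phi)⁻¹ := by group
    _ = RG phi * (((c7.getD i.val []).map (ZG phi)).prod * XG phi) * (RG phi)⁻¹ := by rw [XG_mul]
    _ = _ := by group

open Cfsg.Agent.ChevalleyStructure.Tits.Main in
theorem y7_mul (i : ZMod 8) : yH 7 * ZH i = ((c7.getD i.val []).map ZH).prod * yH 7 := by
  have h1 := rel_H (r_n7 i)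
    (fun j hj => by
      rcases List.mem_append.1 hj with hj | hj
      · rw [List.mem_singleton] at hj; rw [hj]; norm_num
      · exact zw_lt i j hj)
    (fun j hj => by
      rcases List.mem_append.1 hj with hj | hj
      · exact zz_lt _ j hj
      · rw [List.mem_singleton] at hj; rw [hj]; norm_num)
  rw [List.map_append, List.prod_append, List.map_append, List.prod_append, prod_zz, List.map_singleton,
    List.prod_singleton] at h1
  exact h1

open Cfsg.Agent.ChevalleyStructure.Tits.Main in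
/-- conjugation by `y 7` -/
noncomputable def alpha : MulAut T := MulAut.conjNormal (yH 7)

open Cfsg.Agent.ChevalleyStructure.Tits.Main in
theorem alpha_ZC (i : ZMod 8) : alpha (ZC i) = ((c7.getD i.val []).map ZC).prod := by
  apply Subtype.ext
  unfold alpha
  rw [MulAut.conjNormal_apply]
  have h1 : ((ZC i : T) : ChevalleyStructure.Tits.Order.H0) = ZH i := rfl
  rw [h1, y7_mul, mul_inv_cancel_right]
  have h2 : ∀ l : List (ZMod 8), (((l.map ZC).prod : T) : ChevalleyStructure.Tits.Order.H0) = (l.map ZH).prod := by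
    intro l
    induction l with
    | nil => rfl
    | cons a l ih =>
      rw [List.map_cons, List.map_cons, List.prod_cons, List.prod_cons, ← ih, Subgroup.coe_mul]
      rfl
  exact (h2 _).symm

theorem sigma_list {σ : T →* GL (Fin 27) ℂ} (hσ : ∀ i, σ (ZC i) = Zg i) (l : List (ZMod 8)) :
    σ ((l.map ZC).prod) = (l.map Zg).prod := by
  rw [map_list_prod, List.map_map]
  congr 1
  exact List.map_congr_left fun i _ => hσ i

/-- **The intertwiner.** -/
theorem X_conj {σ : T →* GL (Fin 27) ℂ} (hσ : ∀ i, σ (ZC i) = Zg i) (t : T) : X * σ t * X⁻¹ = σ (alpha t) := by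
  have h : (MulAut.conj X).toMonoidHom.comp σ = σ.comp alpha.toMonoidHom := by
    refine MonoidHom.eq_of_eqOn_dense closure_ZC ?_
    rintro _ ⟨i, rfl⟩
    change X * σ (ZC i) * X⁻¹ = σ (alpha (ZC i))
    rw [alpha_ZC, sigma_list hσ, hσ, X_mul, mul_inv_cancel_right]
  exact congrArg (fun f : T →* GL (Fin 27) ℂ => f t) h

theorem trace_conj (a b : GL (Fin 27) ℂ) : Matrix.trace ((a * b * a⁻¹ : GL (Fin 27) ℂ) : Matrix (Fin 27) (Fin 27) ℂ) =
    Matrix.trace (b : Matrix (Fin 27) (Fin 27) ℂ) := by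
  rw [Units.val_mul, Matrix.trace_mul_comm, ← Units.val_mul, ← mul_assoc, inv_mul_cancel, one_mul]

open Cfsg.Agent.ChevalleyStructure.Tits.Main Cfsg.Agent.ChevalleyStructure.Tits.Order in
/-- **Invariance.** -/
theorem invariant {σ : T →* GL (Fin 27) ℂ} (hσ : ∀ i, σ (ZC i) = Zg i) (g : H0) (n : T) :
    Matrix.trace (σ (MulAut.conjNormal g n) : Matrix (Fin 27) (Fin 27) ℂ) =
      Matrix.trace (σ n : Matrix (Fin 27) (Fin 27) ℂ) := by
  have key : ∀ (t : T) (n : T), Matrix.trace (σ (MulAut.conjNormal (t : H0) n) : Matrix (Fin 27) (Fin 27) ℂ) =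
      Matrix.trace (σ n : Matrix (Fin 27) (Fin 27) ℂ) := by
    intro t n
    have h1 : MulAut.conjNormal (t : H0) n = t * n * t⁻¹ := Subtype.ext (by rw [MulAut.conjNormal_apply]; rfl)
    rw [h1, map_mul, map_mul, map_inv, trace_conj]
  by_cases hg : g ∈ commutator H0
  · exact key ⟨g, hg⟩ n
  · have h1 : g * (yH 7)⁻¹ ∈ commutator H0 := by
      rw [Subgroup.mul_mem_iff_of_index_two H0_result.1]
      refine iff_of_false hg fun h => Omega.TwoF.TitsAut.yH7_not_mem ?_
      rwa [inv_mem_iff] at h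
    have h2 : g = g * (yH 7)⁻¹ * yH 7 := by group
    have h3 : MulAut.conjNormal g n = MulAut.conjNormal (((⟨_, h1⟩ : T) : H0)) (alpha n) := by
      change MulAut.conjNormal g n = MulAut.conjNormal (g * (yH 7)⁻¹) (MulAut.conjNormal (yH 7) n)
      rw [← MulAut.mul_apply, ← map_mul, ← h2]
    rw [h3, key, ← X_conj hσ, trace_conj]

section General

variable {Γ : Type*} [Group Γ] [Finite Γ] (N : Subgroup Γ) [N.Normal]

theorem bijective_of (hinj : Function.Injective (MulAut.conjNormal : Γ →* MulAut N)) (hidx : N.index = 2)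
    (hout : Nat.card (Cfsg.Out N) ≤ 2) :
    Function.Bijective (MulAut.conjNormal : Γ →* MulAut N) := by
  have h3 := Subgroup.card_mul_index (MulAut.conj : N →* MulAut N).range
  have h4 := Subgroup.card_mul_index N
  have h5 : Nat.card (MulAut.conj : N →* MulAut N).range ≤ Nat.card N :=
    Nat.card_le_card_of_surjective _ (MonoidHom.rangeRestrict_surjective _)
  rw [hidx] at h4
  rw [Nat.bijective_iff_injective_and_card]
  refine ⟨hinj, le_antisymm (Nat.card_le_card_of_injective _ hinj) ?_⟩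
  rw [← h3, ← h4]
  rw [H55.OutGen.card_out_eq_index] at hout
  exact Nat.mul_le_mul h5 hout

theorem extPP_of (hinj : Function.Injective (MulAut.conjNormal : Γ →* MulAut N)) (hidx : N.index = 2)
    (hout : Nat.card (Cfsg.Out N) ≤ 2) {χ : Γ → ℂ} (hχ : IsIrrCharacter Γ χ)
    (hr : IsIrrCharacter N (fun n => χ n)) {d : ℕ} (hd : IsPrimePow d) (h1 : χ 1 = d) : ExtPP N := by
  let e : Γ ≃* MulAut N := MulEquiv.ofBijective _ (bijective_of N hinj hidx hout)
  have hconj : ∀ s : N, e.symm (MulAut.conj s) = s := by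
    intro s
    have h1 : e s = MulAut.conj s := by
      apply MulEquiv.ext
      intro t
      apply Subtype.ext
      change ((MulAut.conjNormal (s : Γ) t : N) : Γ) = _
      rw [MulAut.conjNormal_apply]
      rfl
    rw [← h1, MulEquiv.symm_apply_apply]
  refine ⟨χ ∘ e.symm.toMonoidHom, Characters.Core.isCharacter_comp _ (Characters.Core.isIrr_isCharacter hχ), ?_, d, hd, ?_⟩
  · have h2 : (fun s : N => (χ ∘ e.symm.toMonoidHom) (MulAut.conj s)) = fun n : N => χ n := by
      funext s
      change χ (e.symm (MulAut.conj s)) = _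
      rw [hconj]
    rw [h2]
    exact hr
  · change χ (e.symm 1) = _
    rw [map_one, h1]

end General

theorem out_le {K : Subgroup (GL Cfsg.Agent.ChevalleyStructure.Tits.Mat.I52 (ZMod 2))}
    (hK : K = Cfsg.Lie.twistedF4 (ZMod 2) 1) : Nat.card (Cfsg.Out ↥(commutator K)) ≤ 2 := by
  subst hK
  exact H867.TitsOut.card_out_le ⟨MulEquiv.refl _⟩

open Cfsg.Agent.ChevalleyStructure.Tits.Main Cfsg.Agent.ChevalleyStructure.Tits.Order
  Cfsg.Agent.ChevalleyStructure.Tits.Final Cfsg.Agent.ChevalleyStructure.Tits.Sat in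
theorem extPP_T : ExtPP T := by
  have := Omega.TwoF.TitsAut.fin_H0
  have hinj : Function.Injective (MulAut.conjNormal : H0 →* MulAut (commutator H0)) :=
    Omega.TwoF.TitsAut.conj_injective Sat_yH gen_yH card_H0 card_V_yH (yH_ne_one (by norm_num))
      Omega.TwoF.TitsAut.yH7_sq core H0_result.2.2.1
  obtain ⟨σ, hσ⟩ := exists_hom
  have hirr : IsIrrCharacter T (rep σ).character := ⟨27, rep σ, irreducible_rep hσ, rfl⟩
  have hcyc : IsCyclic (H0 ⧸ commutator H0) := by
    have : Fact (Nat.Prime 2) := ⟨Nat.prime_two⟩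
    exact isCyclic_of_prime_card (p := 2) H0_result.1
  obtain ⟨χ, hχ, hχσ⟩ := S0886.result (commutator H0) hcyc _ hirr (fun g n => by
    rw [character_rep, character_rep]
    exact invariant hσ g n)
  refine extPP_of (commutator ChevalleyStructure.Tits.Order.H0) hinj H0_result.1 (out_le T0_eq_H0.symm) hχ
    (d := 27) ?_ ?_ ?_
  · rw [funext hχσ]
    exact hirr
  · exact (isPrimePow_nat_iff _).2 ⟨3, 3, by norm_num, by norm_num, by norm_num⟩
  · have h1 := hχσ 1
    rw [Subgroup.coe_one] at h1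
    rw [h1, character_rep, map_one, Units.val_one, Matrix.trace_one, Fintype.card_fin]

/-- **The Tits group.** -/
theorem extPP_tits {S : Type*} [Group S] (h : Lie.IsoTits S) : ExtPP S := by
  obtain ⟨K, hK, ⟨e⟩⟩ := Omega.TwoF.TitsAut.exists_equiv h
  subst hK
  exact ExtPP.congr (S := T) e.symm extPP_T

end Cfsg.Agent.H29.TitsExt
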