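import Cfsg.Agent.S0000
import Cfsg.Agent.H29.AltRow
import Cfsg.Agent.H29.TitsExt
import Cfsg.Agent.H29.RowJ2
import Cfsg.Agent.H29.RowMcL
import Cfsg.Agent.H348.PPD.RowsOne
import Cfsg.Agent.H348.PPD.RowM22
import Cfsg.Agent.H348.PPD.RowJ3
import Cfsg.Agent.H348.PPD.RowHS
import Cfsg.Agent.H348.PPD.RowSuz
import Cfsg.Agent.H348.PPD.RowON
import Cfsg.Agent.H348.PPD.RowFi22
import Cfsg.Agent.H348.PPD.RowFi24
import Cfsg.Agent.H348.PPD.RowHN
import Cfsg.Agent.NotCT.Orders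

/-!
# Characters of prime power degree of simple groups extend to the automorphism group

`ext_of_hasPP` : a finite nonabelian simple group with an irreducible character of prime power degree has one which
extends to the automorphism group, or it is a simple group of order 95040 (`M₁₂`).
-/

set_option autoImplicit false

open Cfsg
open Cfsg.Agent.H794.PP Cfsg.Agent.H29.MinExt

namespace Cfsg.Agent.H29.AllRows

universe u

theorem ext_of_hasPP {S : Type u} [Group S] [Finite S] [IsSimpleGroup S] (hS : ¬ IsMulCommutative S)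
    (hHe : Spor.IsoHe S → HasPP S → ExtPP S) (hp : HasPP S) : ExtPP S ∨ Cfsg.IsM12 S := by
  have hsim : IsSimpleGroup S := inferInstance
  rcases OddHalf.Known.classify' hS (Cfsg.Agent.S0000.result (G := S)) with h1 | ⟨p, hpr, h1⟩ | h1 | h1
  · obtain ⟨n, hn, ⟨e⟩⟩ := h1
    exact Or.inl (AltRow.extPP_alt hn hS e hp)
  · exact Or.inl (AltRow.extPP_lie hpr hS h1)
  · exact Or.inl (TitsExt.extPP_tits h1)
  · rcases h1 with h1 | h1 | h1 | h1 | h1 | h1 | h1 | h1 | h1 | h1 | h1 | h1 | h1 | h1 | h1 | h1 | h1 | h1 | h1 |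
      h1 | h1 | h1 | h1 | h1 | h1 | h1
    · exact Or.inl (H348.PPD.RowsOne.m11 hS h1 hp)
    · exact Or.inr ⟨hsim, NotCT.Orders.m12 h1⟩
    · exact Or.inl (H348.PPD.RowM22.row hS h1 hp)
    · exact Or.inl (H348.PPD.RowsOne.m23 hS h1 hp)
    · exact Or.inl (H348.PPD.RowsOne.m24 hS h1 hp)
    · exact Or.inl (H348.PPD.RowsOne.j1 hS h1 hp)
    · exact Or.inl (RowJ2.row hS h1 hp)
    · exact Or.inl (H348.PPD.RowJ3.row hS h1 hp)
    · exact Or.inl (H348.PPD.RowsOne.j4 hS h1 hp)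
    · exact Or.inl (H348.PPD.RowsOne.co1 hS h1 hp)
    · exact Or.inl (H348.PPD.RowsOne.co2 hS h1 hp)
    · exact Or.inl (H348.PPD.RowsOne.co3 hS h1 hp)
    · exact Or.inl (RowMcL.row hS h1 hp)
    · exact Or.inl (H348.PPD.RowHS.row hS h1 hp)
    · exact Or.inl (H348.PPD.RowSuz.row hS h1 hp)
    · exact Or.inl (hHe h1 hp)
    · exact Or.inl (H348.PPD.RowsOne.ru hS h1 hp)
    · exact Or.inl (H348.PPD.RowON.row hS h1 hp)
    · exact Or.inl (H348.PPD.RowsOne.ly hS h1 hp)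
    · exact Or.inl (H348.PPD.RowFi22.row hS h1 hp)
    · exact Or.inl (H348.PPD.RowsOne.fi23 hS h1 hp)
    · exact Or.inl (H348.PPD.RowFi24.row hS h1 hp)
    · exact Or.inl (H348.PPD.RowHN.row hS h1 hp)
    · exact Or.inl (H348.PPD.RowsOne.th hS h1 hp)
    · exact Or.inl (H348.PPD.RowsOne.b hS h1 hp)
    · exact Or.inl (H348.PPD.RowsOne.m hS h1 hp)

/-- **Composition factors.** -/
theorem main {G : Type*} [Group G] [Finite G] (hG : (∀ d ∈ Cfsg.charDegrees G, ¬ IsPrimePow d)) {S : Type u}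
    [Group S] [Finite S] [IsSimpleGroup S] (hS : ¬ IsMulCommutative S)
    (hHe : Spor.IsoHe S → HasPP S → ExtPP S) (H K : Subgroup G) (hH : H.IsSubnormal)
    [hKn : (K.subgroupOf H).Normal] (hiso : Nonempty (↥H ⧸ K.subgroupOf H ≃* S)) :
    (∀ d ∈ Cfsg.charDegrees S, ¬ IsPrimePow d) ∨ Cfsg.IsM12 S := by
  by_cases hp : HasPP S
  · rcases ext_of_hasPP hS hHe hp with h | h
    · exfalso
      obtain ⟨e⟩ := hiso
      have hne : ∃ a b : S, a * b ≠ b * a := by
        by_contra hcon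
        push Not at hcon
        exact hS ⟨⟨hcon⟩⟩
      exact cf_of_not_hasPP (Nat.card G) G le_rfl (fun ⟨d, hd, hd'⟩ => hG d hd hd') H hH S hne
        (e.toMonoidHom.comp (QuotientGroup.mk' (K.subgroupOf H)))
        (e.surjective.comp (QuotientGroup.mk'_surjective _)) h
    · exact Or.inr h
  · exact Or.inl fun d hd hd' => hp ⟨d, hd, hd'⟩

end Cfsg.Agent.H29.AllRows
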