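import Mathlib

/-!
# Representations of small degree of a group with a four-group inside a special group of order 64

`eq_one_of_lt` : if `u`, `v` generate a four-group, permuted by `x`, and `a₁, b₁, a₂, b₂` centralize it with commutators
as in the group of order 64 of upper unitriangular `3 × 3` matrices over the field with four elements, then `u` acts
trivially in every representation of degree less than 8 (the true bound is 12).
-/

set_option autoImplicit false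
set_option linter.unusedSectionVars false

namespace Cfsg.Agent.H29.FourHeis

variable {G : Type*} [Group G] {W : Type*} [AddCommGroup W] [Module ℂ W] [FiniteDimensional ℂ W]

theorem exists_eig {P : Submodule ℂ W} (hP : P ≠ ⊥) (f : W →ₗ[ℂ] W) (hf : ∀ w ∈ P, f w ∈ P) :
    ∃ μ : ℂ, ∃ w ∈ P, w ≠ 0 ∧ f w = μ • w := by
  have : Nontrivial P := Submodule.nontrivial_iff_ne_bot.2 hP
  obtain ⟨μ, hμ⟩ := Module.End.exists_eigenvalue (f.restrict hf : Module.End ℂ P)
  obtain ⟨w, hw⟩ := hμ.exists_hasEigenvector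
  refine ⟨μ, w, w.2, fun h => hw.2 (Subtype.ext h), ?_⟩
  have h1 := congrArg Subtype.val hw.apply_eq_smul
  exact h1

/-- the relations -/
structure Rels (u v x a₁ b₁ a₂ b₂ : G) : Prop where
  uu : u * u = 1
  vv : v * v = 1
  uv : u * v = v * u
  xu : x * u = v * x
  xv : x * v = u * v * x
  a₁u : a₁ * u = u * a₁
  a₁v : a₁ * v = v * a₁
  b₁u : b₁ * u = u * b₁
  b₁v : b₁ * v = v * b₁
  a₂u : a₂ * u = u * a₂
  a₂v : a₂ * v = v * a₂
  b₂u : b₂ * u = u * b₂
  b₂v : b₂ * v = v * b₂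
  ab₁ : a₁ * b₁ = u * v * b₁ * a₁
  ab₂ : a₂ * b₂ = v * b₂ * a₂
  aa : a₁ * a₂ = u * a₂ * a₁
  ab : a₁ * b₂ = b₂ * a₁
  ba : b₁ * a₂ = a₂ * b₁

section

variable (ρ : Representation ℂ G W) (u v : G)

/-- the joint eigenspace -/
def Wa (s t : ℂ) : Submodule ℂ W where
  carrier := {w | ρ u w = s • w ∧ ρ v w = t • w}
  add_mem' := by
    rintro a b ⟨h1, h2⟩ ⟨h3, h4⟩
    exact ⟨by rw [map_add, h1, h3, smul_add], by rw [map_add, h2, h4, smul_add]⟩
  zero_mem' := ⟨by rw [map_zero, smul_zero], by rw [map_zero, smul_zero]⟩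
  smul_mem' := by
    rintro c a ⟨h1, h2⟩
    exact ⟨by rw [map_smul, h1, smul_comm], by rw [map_smul, h2, smul_comm]⟩

theorem mem_Wa {s t : ℂ} {w : W} : w ∈ Wa ρ u v s t ↔ ρ u w = s • w ∧ ρ v w = t • w := Iff.rfl

end

variable {ρ : Representation ℂ G W} {u v x a₁ b₁ a₂ b₂ : G}

theorem mul_apply (g h : G) (w : W) : ρ (g * h) w = ρ g (ρ h w) := by rw [map_mul]; rfl

theorem inj (g : G) {w : W} (h : ρ g w = 0) : w = 0 := by
  have h1 : ρ g⁻¹ (ρ g w) = w := by rw [← mul_apply, inv_mul_cancel, map_one]; rfl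
  rw [← h1, h, map_zero]

theorem comm_mem {g : G} (hu : g * u = u * g) (hv : g * v = v * g) {s t : ℂ} {w : W} (hw : w ∈ Wa ρ u v s t) :
    ρ g w ∈ Wa ρ u v s t := by
  obtain ⟨h1, h2⟩ := hw
  exact ⟨by rw [← mul_apply, ← hu, mul_apply, h1, map_smul], by rw [← mul_apply, ← hv, mul_apply, h2, map_smul]⟩

theorem x_mem (H : Rels u v x a₁ b₁ a₂ b₂) {s t : ℂ} (hs : s = 1 ∨ s = -1) {w : W} (hw : w ∈ Wa ρ u v s t) :
    ρ x w ∈ Wa ρ u v (s * t) s := by
  obtain ⟨h1, h2⟩ := hw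
  have h3 : ρ v (ρ x w) = s • ρ x w := by rw [← mul_apply, ← H.xu, mul_apply, h1, map_smul]
  have h4 : ρ u (ρ v (ρ x w)) = t • ρ x w := by
    rw [← mul_apply, ← mul_apply, ← H.xv, mul_apply, h2, map_smul]
  refine ⟨?_, h3⟩
  rw [h3, map_smul] at h4
  have h5 : s * s = 1 := by rcases hs with rfl | rfl <;> norm_num
  calc ρ u (ρ x w) = (s * s) • ρ u (ρ x w) := by rw [h5, one_smul]
    _ = s • (s • ρ u (ρ x w)) := by rw [smul_smul]
    _ = (s * t) • ρ x w := by rw [h4, smul_smul]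

/-- Four independent vectors. -/
theorem four_le (H : Rels u v x a₁ b₁ a₂ b₂) (hne : Wa ρ u v 1 (-1) ≠ ⊥) :
    4 ≤ Module.finrank ℂ (Wa ρ u v 1 (-1)) := by
  have mu : ∀ w ∈ Wa ρ u v 1 (-1), ρ u w = w := fun w hw => by rw [hw.1, one_smul]
  have mv : ∀ w ∈ Wa ρ u v 1 (-1), ρ v w = -w := fun w hw => by rw [hw.2, neg_one_smul]
  have ma₁ : ∀ w ∈ Wa ρ u v 1 (-1), ρ a₁ w ∈ Wa ρ u v 1 (-1) := fun w hw => comm_mem H.a₁u H.a₁v hw
  have mb₁ : ∀ w ∈ Wa ρ u v 1 (-1), ρ b₁ w ∈ Wa ρ u v 1 (-1) := fun w hw => comm_mem H.b₁u H.b₁v hw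
  have ma₂ : ∀ w ∈ Wa ρ u v 1 (-1), ρ a₂ w ∈ Wa ρ u v 1 (-1) := fun w hw => comm_mem H.a₂u H.a₂v hw
  have mb₂ : ∀ w ∈ Wa ρ u v 1 (-1), ρ b₂ w ∈ Wa ρ u v 1 (-1) := fun w hw => comm_mem H.b₂u H.b₂v hw
  have r1 : ∀ w ∈ Wa ρ u v 1 (-1), ρ a₁ (ρ b₁ w) = -ρ b₁ (ρ a₁ w) := fun w hw => by
    rw [← mul_apply, H.ab₁, mul_apply, mul_apply, mul_apply, mv _ (mb₁ _ (ma₁ _ hw)), map_neg,
      mu _ (mb₁ _ (ma₁ _ hw))]
  have r2 : ∀ w ∈ Wa ρ u v 1 (-1), ρ a₂ (ρ b₂ w) = -ρ b₂ (ρ a₂ w) := fun w hw => by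
    rw [← mul_apply, H.ab₂, mul_apply, mul_apply, mv _ (mb₂ _ (ma₂ _ hw))]
  have r3 : ∀ w ∈ Wa ρ u v 1 (-1), ρ a₁ (ρ a₂ w) = ρ a₂ (ρ a₁ w) := fun w hw => by
    rw [← mul_apply, H.aa, mul_apply, mul_apply, mu _ (ma₂ _ (ma₁ _ hw))]
  have r4 : ∀ w, ρ a₁ (ρ b₂ w) = ρ b₂ (ρ a₁ w) := fun w => by
    rw [← mul_apply, H.ab, mul_apply]
  have r5 : ∀ w, ρ b₁ (ρ a₂ w) = ρ a₂ (ρ b₁ w) := fun w => by
    rw [← mul_apply, H.ba, mul_apply]
  obtain ⟨μ, w₁, hw₁, hw₁0, hμ⟩ := exists_eig hne (ρ a₁) ma₁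
  let P : Submodule ℂ W := Wa ρ u v 1 (-1) ⊓ Module.End.eigenspace (ρ a₁ : Module.End ℂ W) μ
  have hP : P ≠ ⊥ := by
    intro h
    apply hw₁0
    have : w₁ ∈ P := ⟨hw₁, Module.End.mem_eigenspace_iff.2 hμ⟩
    rwa [h, Submodule.mem_bot] at this
  obtain ⟨ν, w, ⟨hw, hwμ⟩, hw0, hν⟩ := exists_eig hP (ρ a₂) (fun w hw => by
    refine ⟨ma₂ w hw.1, Module.End.mem_eigenspace_iff.2 ?_⟩
    rw [r3 w hw.1, Module.End.mem_eigenspace_iff.1 hw.2, map_smul])
  have hwμ' : ρ a₁ w = μ • w := Module.End.mem_eigenspace_iff.1 hwμ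
  have hμ0 : μ ≠ 0 := by
    rintro rfl
    rw [zero_smul] at hwμ'
    exact hw0 (inj _ hwμ')
  have hν0 : ν ≠ 0 := by
    rintro rfl
    rw [zero_smul] at hν
    exact hw0 (inj _ hν)
  -- the four vectors
  set p := ρ b₁ w with hp
  set q := ρ b₂ w with hq
  set r := ρ b₁ q with hr
  have hpm := mb₁ w hw
  have hqm := mb₂ w hw
  have hrm := mb₁ q hqm
  have p1 : ρ a₁ p = -(μ • p) := by rw [hp, r1 w hw, hwμ', map_smul]
  have p2 : ρ a₂ p = ν • p := by rw [hp, ← r5, hν, map_smul]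
  have q1 : ρ a₁ q = μ • q := by rw [hq, r4, hwμ', map_smul]
  have q2 : ρ a₂ q = -(ν • q) := by rw [hq, r2 w hw, hν, map_smul]
  have s1 : ρ a₁ r = -(μ • r) := by rw [hr, r1 q hqm, q1, map_smul]
  have s2 : ρ a₂ r = -(ν • r) := by rw [hr, ← r5, q2, map_neg, map_smul]
  have hp0 : p ≠ 0 := fun h => hw0 (inj _ h)
  have hq0 : q ≠ 0 := fun h => hw0 (inj _ h)
  have hr0 : r ≠ 0 := fun h => hq0 (inj _ h)
  have hli : LinearIndependent ℂ (![⟨w, hw⟩, ⟨p, hpm⟩, ⟨q, hqm⟩, ⟨r, hrm⟩] : Fin 4 → Wa ρ u v 1 (-1)) := by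
    rw [Fintype.linearIndependent_iff]
    intro g hg
    have h0 : g 0 • w + g 1 • p + g 2 • q + g 3 • r = 0 := by
      have h1 := congrArg Subtype.val hg
      rw [Fin.sum_univ_four] at h1
      exact h1
    have h1 := congrArg (ρ a₁) h0
    rw [map_add, map_add, map_add, map_smul, map_smul, map_smul, map_smul, p1, q1, s1, hwμ', map_zero] at h1
    have h2 : μ • (g 0 • w - g 1 • p + g 2 • q - g 3 • r) = 0 := by
      rw [← h1]
      simp only [smul_sub, smul_add, smul_neg, smul_comm μ]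
      abel
    have h3 := (smul_eq_zero.1 h2).resolve_left hμ0
    have h4 : (2 : ℂ) • (g 0 • w + g 2 • q) = 0 := by
      rw [two_smul]
      calc _ = (g 0 • w + g 1 • p + g 2 • q + g 3 • r) + (g 0 • w - g 1 • p + g 2 • q - g 3 • r) := by abel
        _ = 0 := by rw [h0, h3, add_zero]
    have h5 : (2 : ℂ) • (g 1 • p + g 3 • r) = 0 := by
      rw [two_smul]
      calc _ = (g 0 • w + g 1 • p + g 2 • q + g 3 • r) - (g 0 • w - g 1 • p + g 2 • q - g 3 • r) := by abel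
        _ = 0 := by rw [h0, h3, sub_zero]
    have h6 := (smul_eq_zero.1 h4).resolve_left two_ne_zero
    have h7 := (smul_eq_zero.1 h5).resolve_left two_ne_zero
    have h8 := congrArg (ρ a₂) h6
    rw [map_add, map_smul, map_smul, hν, q2, map_zero] at h8
    have h9 : ν • (g 0 • w - g 2 • q) = 0 := by
      rw [← h8]
      simp only [smul_sub, smul_neg, smul_comm ν]
      abel
    have h10 := (smul_eq_zero.1 h9).resolve_left hν0
    have h11 := congrArg (ρ a₂) h7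
    rw [map_add, map_smul, map_smul, p2, s2, map_zero] at h11
    have h12 : ν • (g 1 • p - g 3 • r) = 0 := by
      rw [← h11]
      simp only [smul_sub, smul_neg, smul_comm ν]
      abel
    have h13 := (smul_eq_zero.1 h12).resolve_left hν0
    have e0 : (2 : ℂ) • (g 0 • w) = 0 := by
      rw [two_smul]
      calc _ = (g 0 • w + g 2 • q) + (g 0 • w - g 2 • q) := by abel
        _ = 0 := by rw [h6, h10, add_zero]
    have e2 : (2 : ℂ) • (g 2 • q) = 0 := by
      rw [two_smul]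
      calc _ = (g 0 • w + g 2 • q) - (g 0 • w - g 2 • q) := by abel
        _ = 0 := by rw [h6, h10, sub_zero]
    have e1 : (2 : ℂ) • (g 1 • p) = 0 := by
      rw [two_smul]
      calc _ = (g 1 • p + g 3 • r) + (g 1 • p - g 3 • r) := by abel
        _ = 0 := by rw [h7, h13, add_zero]
    have e3 : (2 : ℂ) • (g 3 • r) = 0 := by
      rw [two_smul]
      calc _ = (g 1 • p + g 3 • r) - (g 1 • p - g 3 • r) := by abel
        _ = 0 := by rw [h7, h13, sub_zero]
    intro i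
    fin_cases i
    · exact (smul_eq_zero.1 ((smul_eq_zero.1 e0).resolve_left two_ne_zero)).resolve_right hw0
    · exact (smul_eq_zero.1 ((smul_eq_zero.1 e1).resolve_left two_ne_zero)).resolve_right hp0
    · exact (smul_eq_zero.1 ((smul_eq_zero.1 e2).resolve_left two_ne_zero)).resolve_right hq0
    · exact (smul_eq_zero.1 ((smul_eq_zero.1 e3).resolve_left two_ne_zero)).resolve_right hr0
  have h1 := hli.fintype_card_le_finrank
  rwa [Fintype.card_fin] at h1

theorem finrank_le_of_inj {P Q : Submodule ℂ W} (g : G) (h : ∀ w ∈ P, ρ g w ∈ Q) :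
    Module.finrank ℂ P ≤ Module.finrank ℂ Q := by
  refine LinearMap.finrank_le_finrank_of_injective (f := (ρ g).restrict h) ?_
  intro a b hab
  have h1 : ρ g ((a : W) - b) = 0 := by
    rw [map_sub, sub_eq_zero]
    exact congrArg Subtype.val hab
  exact Subtype.ext (sub_eq_zero.1 (inj g h1))

/-- **The bound.** -/
theorem eq_one_of_lt (H : Rels u v x a₁ b₁ a₂ b₂) (hd : Module.finrank ℂ W < 8) : ρ u = 1 := by
  by_cases hne : Wa ρ u v 1 (-1) = ⊥
  · -- all three eigenspaces are zero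
    have hc : ∀ w ∈ Wa ρ u v (-1) (-1), w = 0 := by
      intro w hw
      have h1 := x_mem H (Or.inr rfl) hw
      rw [neg_mul_neg, one_mul, hne, Submodule.mem_bot] at h1
      exact inj _ h1
    have hb : ∀ w ∈ Wa ρ u v (-1) 1, w = 0 := by
      intro w hw
      have h1 := x_mem H (Or.inr rfl) hw
      rw [mul_one] at h1
      exact inj _ (hc _ h1)
    have hu : ∀ w, ρ u (ρ u w) = w := fun w => by rw [← mul_apply, H.uu, map_one]; rfl
    have hv : ∀ w, ρ v (ρ v w) = w := fun w => by rw [← mul_apply, H.vv, map_one]; rfl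
    have huv : ∀ w, ρ v (ρ u w) = ρ u (ρ v w) := fun w => by rw [← mul_apply, ← H.uv, mul_apply]
    ext1 w
    have h1 := hc (w - ρ u w - (ρ v w - ρ u (ρ v w))) ⟨by
      simp only [map_sub, hu, neg_one_smul]
      abel, by
      simp only [map_sub, hv, huv, neg_one_smul]
      abel⟩
    have h2 := hb (w - ρ u w + (ρ v w - ρ u (ρ v w))) ⟨by
      simp only [map_sub, map_add, hu, neg_one_smul]
      abel, by
      simp only [map_sub, map_add, hv, huv, one_smul]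
      abel⟩
    have h3 : (2 : ℂ) • (w - ρ u w) = 0 := by
      rw [two_smul]
      calc _ = (w - ρ u w - (ρ v w - ρ u (ρ v w))) + (w - ρ u w + (ρ v w - ρ u (ρ v w))) := by abel
        _ = 0 := by rw [h1, h2, add_zero]
    have h4 := (smul_eq_zero.1 h3).resolve_left two_ne_zero
    exact (sub_eq_zero.1 h4).symm
  · exfalso
    have h4 := four_le H hne
    have h5 : Module.finrank ℂ (Wa ρ u v 1 (-1)) ≤ Module.finrank ℂ (Wa ρ u v (-1) (-1)) := by
      have h6 : Module.finrank ℂ (Wa ρ u v 1 (-1)) ≤ Module.finrank ℂ (Wa ρ u v (-1) 1) :=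
        finrank_le_of_inj x fun w hw => by
          have h1 := x_mem H (Or.inl rfl) hw
          rwa [one_mul] at h1
      refine h6.trans (finrank_le_of_inj (ρ := ρ) x fun w hw => ?_)
      have h1 := x_mem H (Or.inr rfl) hw
      rwa [mul_one] at h1
    have hdis : Disjoint (Wa ρ u v 1 (-1)) (Wa ρ u v (-1) (-1)) := by
      rw [Submodule.disjoint_def]
      intro w hw1 hw2
      have h1 := hw1.1
      rw [hw2.1, one_smul, neg_one_smul] at h1
      have h2 : (2 : ℂ) • w = 0 := by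
        rw [two_smul]
        nth_rewrite 1 [← h1]
        rw [neg_add_cancel]
      exact (smul_eq_zero.1 h2).resolve_left two_ne_zero
    have h6 := Submodule.finrank_add_finrank_le_of_disjoint hdis
    omega

end Cfsg.Agent.H29.FourHeis
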