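import Cfsg.Agent.H29.RuRData
import Cfsg.Agent.KFacts.RuDbl.One
import Cfsg.Agent.H51.Tools
import Cfsg.Agent.H721.SR.Base

set_option autoImplicit false

/-!
# The Rudvalis group has a non-real element (of order 16)

The trace of an element of `fourRu` (computed on the frame `4 e_q`) is a class function, `T f⁻¹ = star (T f)`, and
`i` is not in the commutator subgroup since the Schur multiplier of the Rudvalis group has order 2.
-/

namespace Cfsg.Agent.H29.RuR

open Cfsg.Spor Cfsg.Agent.RuLat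

/-- the frame vectors `4 e_q` -/
def fr (q : RuIdx) : RuVec := fun r => if r = q then 4 else 0

/-- number of the index -/
def qi (q : RuIdx) : Fin 28 := ⟨cn q, by unfold cn; omega⟩

theorem fr_eq : ∀ q r : RuIdx, decv (ent FL (qi q)).2.2.1 (ent FL (qi q)).2.2.2 r = fr q r := by
  decide +kernel

theorem fr_eq' (q : RuIdx) : decv (ent FL (qi q)).2.2.1 (ent FL (qi q)).2.2.2 = fr q := funext fun r => fr_eq q r

theorem ent_mem' (Y : Hyp) {l : List (ℕ × ℕ × ℕ × ℕ)} (hl : l.length = 28) (ho : allT l okEnt = true) (j : Fin 28) :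
    decv (ent l j).2.2.1 (ent l j).2.2.2 ∈ ruLattice := by
  have h := allT_spec ho _ (ent_mem hl j)
  rw [okEnt_vec h]
  exact smul_mem _ (Y.mem ⟨_, okEnt_lt h⟩)

theorem gram2 {l m l' m' : List (ℕ × ℕ × ℕ × ℕ)} (hl : l.length = 28) (hm : m.length = 28) (hl' : l'.length = 28)
    (hm' : m'.length = 28) (h : okGram2 l m l' m' = true) (j k : Fin 28) :
    herm (decv (ent l j).2.2.1 (ent l j).2.2.2) (decv (ent l' k).2.2.1 (ent l' k).2.2.2) =
      herm (decv (ent m j).2.2.1 (ent m j).2.2.2) (decv (ent m' k).2.2.1 (ent m' k).2.2.2) := by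
  have h0 : allT (l.zip m) (fun z => allT (l'.zip m') (pairEq z)) = true := h
  have h1 : pairEq (ent l j, ent m j) (ent l' k, ent m' k) = true :=
    allT_spec (allT_spec h0 _ (zip_mem hl hm j)) _ (zip_mem hl' hm' k)
  have h2 := pairEq_sound h1
  dsimp only at h2
  exact h2

theorem fr_mem (Y : Hyp) (q : RuIdx) : fr q ∈ ruLattice := by
  rw [← fr_eq']
  exact ent_mem' Y rfl okFL _

theorem LB_eq (j : Fin 28) : decv (ent LB j).2.2.1 (ent LB j).2.2.2 = vec (bl j) := by
  rw [okEnt_vec (allT_spec okLB _ (ent_mem rfl j)), exp_LB, pow_zero, one_smul]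
  rfl

/-- the element `G` -/
theorem exists_G (Y : Hyp) (S : Span bl) : ∃ g : fourRu, ∀ q : RuIdx,
    ((g.1 ⟨fr q, fr_mem Y q⟩ : ruLattice) : RuVec) = decv (ent FG (qi q)).2.2.1 (ent FG (qi q)).2.2.2 := by
  obtain ⟨g, hg1, hg2⟩ := exists_lift (ι := RuIdx ⊕ Fin 28) (Sum.elim fr (fun j => vec (bl j)))
    (Sum.elim (fun q => decv (ent FG (qi q)).2.2.1 (ent FG (qi q)).2.2.2)
      (fun j => decv (ent LG j).2.2.1 (ent LG j).2.2.2))
    (by
      rintro (q | j)
      · exact fr_mem Y q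
      · exact Y.mem (bl j))
    (by
      rintro (q | j)
      · exact ent_mem' Y rfl okFG _
      · exact ent_mem' Y rfl okLG _)
    (by
      intro x hx
      obtain ⟨c, hc⟩ := S.span x hx
      refine ⟨Sum.elim (fun _ => 0) c, ?_⟩
      rw [Fintype.sum_sum_type]
      simp only [Sum.elim_inl, Sum.elim_inr, zero_smul, Finset.sum_const_zero, zero_add]
      exact hc)
    (by
      rintro (q | j) (r | k)
      · simp only [Sum.elim_inl]
        rw [gram2 rfl rfl rfl rfl okFF, fr_eq', fr_eq']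
      · simp only [Sum.elim_inl, Sum.elim_inr]
        rw [gram2 rfl rfl rfl rfl okFB, fr_eq', LB_eq]
      · simp only [Sum.elim_inl, Sum.elim_inr]
        rw [← star_herm, gram2 rfl rfl rfl rfl okFB, fr_eq', LB_eq, star_herm]
      · simp only [Sum.elim_inr]
        rw [gram2 rfl rfl rfl rfl okBB, LB_eq, LB_eq])
  exact ⟨⟨g, hg1⟩, fun q => hg2 (Sum.inl q)⟩

theorem trace_data : ∑ q : RuIdx, decv (ent FG (qi q)).2.2.1 (ent FG (qi q)).2.2.2 q = ⟨4, 4⟩ := by
  decide +kernel

/-! ### the trace -/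

variable (Y : Hyp)

/-- the matrix (times 4) -/
def A (f : fourRu) : Matrix RuIdx RuIdx GaussianInt :=
  Matrix.of fun p q => ((f.1 ⟨fr q, fr_mem Y q⟩ : ruLattice) : RuVec) p

theorem herm_fr (x : RuVec) (q : RuIdx) : herm x (fr q) = x q * 4 := by
  unfold herm fr
  rw [Finset.sum_eq_single q]
  · rw [if_pos rfl]
    congr 1
  · intro r _ hr
    rw [if_neg hr, star_zero, mul_zero]
  · intro h
    exact absurd (Finset.mem_univ q) h

theorem expand (x : RuVec) : (4 : GaussianInt) • x = ∑ q, x q • fr q := by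
  funext p
  rw [Finset.sum_apply, Finset.sum_eq_single p]
  · simp [fr, mul_comm]
  · intro q _ hq
    simp [fr, Ne.symm hq]
  · intro h
    exact absurd (Finset.mem_univ p) h

theorem apply_eq (f : fourRu) (x : ruLattice) (p : RuIdx) :
    4 * ((f.1 x : ruLattice) : RuVec) p = ∑ q, A Y f p q * (x : RuVec) q := by
  have h1 : (f.1 ⟨(4 : GaussianInt) • (x : RuVec), smul_mem 4 x.2⟩ : RuVec) = (4 : GaussianInt) • (f.1 x : RuVec) :=
    four_smul f.2 4 x x.2
  have h2 := four_sum f.2 Finset.univ (fun q => (x : RuVec) q) fr (fr_mem Y)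
  have h3 : (⟨(4 : GaussianInt) • (x : RuVec), smul_mem 4 x.2⟩ : ruLattice) =
      ⟨∑ q, (x : RuVec) q • fr q, sum_mem' _ _ _ (fr_mem Y)⟩ := Subtype.ext (expand x)
  rw [h3, h2] at h1
  have h4 := congrFun h1 p
  rw [Finset.sum_apply] at h4
  simp only [Pi.smul_apply, smul_eq_mul] at h4
  rw [← h4]
  refine Finset.sum_congr rfl fun q _ => ?_
  rw [mul_comm]
  rfl

theorem A_mul (f g : fourRu) : A Y f * A Y g = (4 : GaussianInt) • A Y (f * g) := by
  ext1 p q
  rw [Matrix.mul_apply, Matrix.smul_apply, smul_eq_mul]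
  exact (apply_eq Y f (g.1 ⟨fr q, fr_mem Y q⟩) p).symm

theorem A_one : A Y 1 = (4 : GaussianInt) • (1 : Matrix RuIdx RuIdx GaussianInt) := by
  ext1 p q
  rw [Matrix.smul_apply, Matrix.one_apply, smul_eq_mul]
  show fr q p = _
  unfold fr
  split_ifs <;> simp

theorem A_inv (f : fourRu) : A Y f⁻¹ = (A Y f).conjTranspose := by
  ext1 p q
  rw [Matrix.conjTranspose_apply]
  have h1 := four_herm f.2 (f⁻¹.1 ⟨fr q, fr_mem Y q⟩) ⟨fr p, fr_mem Y p⟩
  have h2 : f.1 (f⁻¹.1 ⟨fr q, fr_mem Y q⟩) = ⟨fr q, fr_mem Y q⟩ := by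
    show (f * f⁻¹).1 _ = _
    rw [mul_inv_cancel]
    rfl
  rw [h2] at h1
  have h3 : herm (fr q) ((f.1 ⟨fr p, fr_mem Y p⟩ : ruLattice) : RuVec) = star (A Y f q p) * 4 := by
    rw [← star_herm, herm_fr, star_mul, mul_comm]
    congr 1
  have h4 : herm ((f⁻¹.1 ⟨fr q, fr_mem Y q⟩ : ruLattice) : RuVec) (fr p) = A Y f⁻¹ p q * 4 := herm_fr _ p
  change herm (fr q) _ = herm _ (fr p) at h1
  rw [h3, h4] at h1
  exact (mul_right_cancel₀ (by decide) h1).symm

/-- four times the trace -/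
def T (f : fourRu) : GaussianInt := (A Y f).trace

theorem T_conj (h f : fourRu) : T Y (h * f * h⁻¹) = T Y f := by
  have h1 : A Y h * A Y f * A Y h⁻¹ = (16 : GaussianInt) • A Y (h * f * h⁻¹) := by
    rw [A_mul, Matrix.smul_mul, A_mul, smul_smul]
    norm_num
  have h2 : (A Y h * A Y f * A Y h⁻¹).trace = 16 * T Y f := by
    rw [Matrix.trace_mul_comm, ← Matrix.mul_assoc, A_mul, inv_mul_cancel, A_one, smul_smul, Matrix.smul_mul,
      Matrix.one_mul, Matrix.trace_smul, smul_eq_mul]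
    norm_num
    rfl
  rw [h1, Matrix.trace_smul, smul_eq_mul] at h2
  exact mul_left_cancel₀ (by decide) h2

theorem T_inv (f : fourRu) : T Y f⁻¹ = star (T Y f) := by
  unfold T
  rw [A_inv, Matrix.trace_conjTranspose]

/-- multiplication by `i` -/
def zi : fourRu := ⟨iPerm, iPerm_mem⟩

theorem A_zi (f : fourRu) : A Y (zi * f) = gI • A Y f := by
  ext1 p q
  rfl

theorem A_zi_pow (e : ℕ) (f : fourRu) : A Y (zi ^ e * f) = gI ^ e • A Y f := by
  induction e with
  | zero => simp
  | succ e ih => rw [pow_succ', mul_assoc, A_zi, ih, smul_smul, pow_succ']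

theorem T_zi_pow (e : ℕ) (f : fourRu) : T Y (zi ^ e * f) = gI ^ e * T Y f := by
  unfold T
  rw [A_zi_pow, Matrix.trace_smul, smul_eq_mul]

theorem exists_T (S : Span bl) : ∃ g : fourRu, T Y g = ⟨4, 4⟩ := by
  obtain ⟨g, hg⟩ := exists_G Y S
  refine ⟨g, ?_⟩
  rw [← trace_data]
  unfold T Matrix.trace
  refine Finset.sum_congr rfl fun q _ => ?_
  show ((g.1 ⟨fr q, fr_mem Y q⟩ : ruLattice) : RuVec) q = _
  rw [hg q]

/-! ### the double cover -/

open Cfsg.Agent.H51.Mult Cfsg.Agent.H51.Tools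

theorem center_pow {z : fourRu} (hz : z ∈ Subgroup.center fourRu) : ∃ e < 4, z = zi ^ e := by
  rw [Main.hyp.ker_eq Prep.span_bl (onto Main.hyp Prep.span_bl)] at hz
  obtain ⟨e, he, h⟩ := Main.hyp.eq_iPow Prep.span_bl (MonoidHom.mem_ker.1 hz)
  refine ⟨e, he, h.trans (Subtype.ext ?_)⟩
  rw [Subgroup.coe_pow]
  rfl

theorem finite_four : Finite fourRu := by
  obtain ⟨hz, hcard, -⟩ := Main.main
  apply Nat.finite_of_card_ne_zero
  rw [Subgroup.card_eq_card_quotient_mul_card_subgroup (Subgroup.center fourRu), hz]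
  show Nat.card Ru * 4 ≠ 0
  rw [hcard]
  norm_num

theorem perfect_Ru : commutator Ru = ⊤ := by
  obtain ⟨-, hcard, hs⟩ := Main.main
  haveI : Finite Ru := Nat.finite_of_card_ne_zero (by rw [hcard]; norm_num)
  exact perfect_of_simple hs (by rw [hcard]; norm_num)

theorem mkc_ker : (QuotientGroup.mk' (Subgroup.center fourRu)).ker = Subgroup.center fourRu :=
  QuotientGroup.ker_mk' _

/-- `i` is not in the commutator subgroup -/
theorem even_of_mem {e : ℕ} (he : e < 4) (h : zi ^ e ∈ commutator fourRu) : e = 0 ∨ e = 2 := by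
  by_contra hc
  rw [not_or] at hc
  haveI := finite_four
  have h4 : zi ^ 4 = 1 := Subtype.ext (by rw [Subgroup.coe_pow]; exact iPerm_pow_four)
  have hord : orderOf (zi ^ e) = 2 ^ (1 + 1) := by
    haveI : Fact (Nat.Prime 2) := ⟨Nat.prime_two⟩
    apply orderOf_eq_prime_pow
    · intro h1
      rw [← pow_mul] at h1
      have h2 : (zi ^ (e * 2 ^ 1) : fourRu) = zi ^ 2 := by
        rcases (by omega : e = 1 ∨ e = 3) with rfl | rfl
        · rfl
        · show zi ^ (4 + 2) = zi ^ 2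
          rw [pow_add, h4, one_mul]
      rw [h2] at h1
      have h3 : iPerm ^ 2 = iPerm ^ 0 := by
        have h5 := congrArg Subtype.val h1
        rw [Subgroup.coe_pow] at h5
        exact h5
      exact absurd (iPow_inj Main.hyp (by norm_num) (by norm_num) h3) (by norm_num)
    · rw [← pow_mul, mul_comm, pow_mul]
      show (zi ^ 4) ^ e = 1
      rw [h4, one_pow]
  obtain ⟨L, _, _, π, hπ, hd⟩ := exists_cover (q := QuotientGroup.mk' (Subgroup.center fourRu))
    (QuotientGroup.mk'_surjective _) mkc_ker.le perfect_Ru (n := 4) h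
    ((QuotientGroup.eq_one_iff _).2 (Subgroup.pow_mem _ (by
      rw [Subgroup.mem_center_iff]
      intro g
      exact Subtype.ext (iPerm_comm g.2)) e)) (by rw [hord]; norm_num)
  exact Cfsg.Agent.KFacts.RuDbl.One.oneCover_spor.not_four_dvd hπ.perf hπ.surj hπ.cen hd

theorem gI_sq : gI ^ 2 = -1 := by rw [pow_two, gI_mul_self]

/-- an element conjugate to its inverse modulo scalars has `T = ± star T` -/
theorem T_of_real {f : fourRu} (h : IsConj (QuotientGroup.mk' (Subgroup.center fourRu) f)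
    (QuotientGroup.mk' (Subgroup.center fourRu) f)⁻¹) :
    T Main.hyp f = star (T Main.hyp f) ∨ T Main.hyp f = -star (T Main.hyp f) := by
  obtain ⟨x, hx⟩ := isConj_iff.1 h
  clear h
  obtain ⟨h, rfl⟩ := QuotientGroup.mk'_surjective _ x
  obtain ⟨d, hd, z, hz, rfl⟩ := exists_factor (q := QuotientGroup.mk' (Subgroup.center fourRu))
    (QuotientGroup.mk'_surjective _) perfect_Ru f
  obtain ⟨a, -, rfl⟩ := center_pow (mkc_ker.le (MonoidHom.mem_ker.2 hz))
  have hzc : ∀ (k : ℕ) (g : fourRu), zi ^ k * g = g * zi ^ k := fun k g => by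
    have h1 : Commute zi g := (Subtype.ext (iPerm_comm g.2) : g * zi = zi * g).symm
    exact (h1.pow_left k).eq
  rw [map_mul, hz, mul_one, ← map_mul, ← map_inv, ← map_inv, ← map_mul] at hx
  have h1 : h * d * h⁻¹ * d ∈ Subgroup.center fourRu := by
    apply mkc_ker.le
    rw [MonoidHom.mem_ker, map_mul, hx, ← map_mul, inv_mul_cancel, map_one]
  obtain ⟨e, he, h2⟩ := center_pow h1
  have h3 : zi ^ e ∈ commutator fourRu := by
    rw [← h2]
    exact mul_mem ((inferInstance : (commutator fourRu).Normal).conj_mem d hd h) hd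
  have h4 : h * d * h⁻¹ = zi ^ e * d⁻¹ := by rw [← h2]; group
  have h5 : T Main.hyp d = gI ^ e * star (T Main.hyp d) := by
    rw [← T_inv, ← T_zi_pow, ← h4, T_conj]
  have h6 : T Main.hyp (d * zi ^ a) = gI ^ a * T Main.hyp d := by
    rw [← hzc, T_zi_pow]
  have h7 : T Main.hyp (d * zi ^ a) = (-1) ^ a * (gI ^ e * star (T Main.hyp (d * zi ^ a))) := by
    rw [h6, star_mul, star_pow]
    conv_lhs => rw [h5]
    rw [← gI_sq, ← pow_mul, mul_comm 2 a, pow_mul, pow_two (gI ^ a)]
    calc gI ^ a * (gI ^ e * star (T Main.hyp d))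
        = (gI ^ a * star gI ^ a) * (gI ^ a * (gI ^ e * star (T Main.hyp d))) := by
          rw [gI_pow_mul_star, one_mul]
      _ = _ := by ring
  have h8 : gI ^ e = 1 ∨ gI ^ e = -1 := by
    rcases even_of_mem he h3 with rfl | rfl
    · exact Or.inl (pow_zero _)
    · exact Or.inr gI_sq
  rcases h8 with h8 | h8 <;> rcases neg_one_pow_eq_or GaussianInt a with h9 | h9 <;>
    rw [h8, h9] at h7
  · left; simpa using h7
  · right; simpa using h7
  · right; simpa using h7
  · left; simpa using h7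

/-- **the Rudvalis group has a non-real element** -/
theorem nrel : Cfsg.Agent.H721.SR.NRel Ru := by
  obtain ⟨g, hg⟩ := exists_T Main.hyp Prep.span_bl
  refine ⟨QuotientGroup.mk' (Subgroup.center fourRu) g, fun h => ?_⟩
  have h1 := T_of_real h
  rw [hg] at h1
  revert h1
  decide

theorem nrel_ru {K : Type*} [Group K] (h : IsoRu K) : Cfsg.Agent.H721.SR.NRel K := by
  obtain ⟨e⟩ := h
  exact nrel.congr e.symm

theorem rr_ru {K : Type*} [Group K] (h : IsoRu K) : Cfsg.Agent.H721.SR.RR K :=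
  Cfsg.Agent.H721.SR.RR.of_nrel (nrel_ru h)

end Cfsg.Agent.H29.RuR
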