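import Cfsg.Agent.H360.Iso.UniElt

/-!
# Permutation isometries in `PSU n F q`, `q` even (helper29)

* `exists_two_pow`: for `q` even and `2 ^ f < n` there is an element of order `2 ^ f`.
-/

set_option autoImplicit false
set_option linter.unusedSectionVars false

namespace Cfsg.Agent.H29.TPPerm

open Cfsg Cfsg.Agent.LieClassical Cfsg.Agent.LieClassical.HermBasic Cfsg.Agent.H948.UBase Cfsg.Agent.H948.UProd
  Cfsg.Agent.H360.Iso

variable {F : Type*} [Field F] [Fintype F] {q : ℕ} {hF : Fintype.card F = q ^ 2}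

/-- the standard form and the permutations -/
theorem exists_std (hF : Fintype.card F = q ^ 2) (m : ℕ) :
    ∃ B : (Fin m → F) →ₛₗ[cj hF] (Fin m → F) →ₗ[F] F, IsHerm hF B ∧
      ∀ σ : Equiv.Perm (Fin m), Iso B (LinearMap.funLeft F F σ) := by
  refine ⟨LinearMap.mk₂'ₛₗ (cj hF) (RingHom.id F) (fun x y => ∑ i, x i ^ q * y i) ?_ ?_ ?_ ?_, ⟨?_, ?_⟩, ?_⟩
  · intro x y z
    rw [← Finset.sum_add_distrib]
    exact Finset.sum_congr rfl fun i _ => by rw [Pi.add_apply, add_pow_q hF, add_mul]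
  · intro c x y
    rw [smul_eq_mul, Finset.mul_sum]
    exact Finset.sum_congr rfl fun i _ => by rw [Pi.smul_apply, smul_eq_mul, mul_pow, cj_apply, mul_assoc]
  · intro x y z
    rw [← Finset.sum_add_distrib]
    exact Finset.sum_congr rfl fun i _ => by rw [Pi.add_apply, mul_add]
  · intro c x y
    rw [smul_eq_mul, Finset.mul_sum]
    exact Finset.sum_congr rfl fun i _ => by rw [Pi.smul_apply, smul_eq_mul, RingHom.id_apply]; ring
  · refine ⟨fun x y => ?_⟩
    show cj hF (∑ i, x i ^ q * y i) = ∑ i, y i ^ q * x i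
    rw [map_sum]
    exact Finset.sum_congr rfl fun i _ => by rw [cj_apply, mul_pow, pow_q_pow_q hF, mul_comm]
  · intro x h
    funext i
    have h1 : ∑ j, x j ^ q * (Pi.single i 1 : Fin m → F) j = 0 := h (Pi.single i 1)
    rw [Finset.sum_eq_single i] at h1
    · rw [Pi.single_eq_same, mul_one, pow_q_eq_zero hF] at h1
      exact h1
    · intro j _ hj
      rw [Pi.single_eq_of_ne hj, mul_zero]
    · intro h2
      exact absurd (Finset.mem_univ i) h2
  · intro σ x y
    show ∑ i, x (σ i) ^ q * y (σ i) = ∑ i, x i ^ q * y i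
    exact Equiv.sum_comp σ fun i => x i ^ q * y i

theorem funLeft_pow {m : ℕ} (σ : Equiv.Perm (Fin m)) (k : ℕ) :
    (LinearMap.funLeft F F σ : Module.End F (Fin m → F)) ^ k = LinearMap.funLeft F F (σ ^ k : Equiv.Perm (Fin m)) := by
  induction k with
  | zero =>
    rw [pow_zero, pow_zero]
    rfl
  | succ k ih =>
    rw [pow_succ, ih, pow_succ']
    rfl

theorem funLeft_eq_one {m : ℕ} {σ : Equiv.Perm (Fin m)}
    (h : (LinearMap.funLeft F F σ : Module.End F (Fin m → F)) = 1) : σ = 1 := by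
  ext i
  have h1 := congrFun (LinearMap.congr_fun h (Pi.single i (1 : F))) i
  have h2 : (Pi.single i (1 : F) : Fin m → F) (σ i) = (Pi.single i (1 : F) : Fin m → F) i := h1
  rw [Pi.single_eq_same] at h2
  by_contra h3
  have h4 : σ i ≠ i := fun h4 => h3 (by rw [h4]; rfl)
  rw [Pi.single_eq_of_ne h4] at h2
  exact zero_ne_one h2

theorem eq_one_of_two_pow (h : (-1 : F) = 1) (f : ℕ) {x : F} (hx : x ^ 2 ^ f = 1) : x = 1 := by
  induction f with
  | zero => simpa using hx
  | succ f ih =>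
    apply ih
    rw [pow_succ, pow_mul, pow_two] at hx
    rcases mul_self_eq_one_iff.1 hx with h1 | h1
    · exact h1
    · rw [h1, h]

/-- **the elements of order `2 ^ f`** -/
theorem exists_two_pow (hF : Fintype.card F = q ^ 2) (hq : Even q) {n f : ℕ} (hn : 3 ≤ n) (hf : 2 ^ f < n) :
    ∃ x : PSU n F q, orderOf x = 2 ^ f := by
  rcases Nat.eq_zero_or_pos f with h0 | h0
  · exact ⟨1, by rw [h0, pow_zero, orderOf_one]⟩
  have hc2 : 2 ≤ 2 ^ f := by
    calc 2 = 2 ^ 1 := by norm_num
      _ ≤ 2 ^ f := Nat.pow_le_pow_right (by norm_num) h0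
  obtain ⟨B, hB, hBs⟩ := exists_std hF (2 ^ f)
  obtain ⟨C, hC⟩ := exists_space hF (n - 2 ^ f)
  have hdim : Module.finrank F ((Fin (2 ^ f) → F) × (Fin (n - 2 ^ f) → F)) = n := by
    rw [Module.finrank_prod, Module.finrank_fintype_fun_eq_card, Module.finrank_fintype_fun_eq_card, Fintype.card_fin,
      Fintype.card_fin]
    omega
  obtain ⟨σ, hσ⟩ : ∃ σ : Equiv.Perm (Fin (2 ^ f)), orderOf σ = 2 ^ f := by
    refine ⟨finRotate (2 ^ f), ?_⟩
    rw [(isCycle_finRotate_of_le hc2).orderOf, support_finRotate_of_le hc2, Finset.card_univ, Fintype.card_fin]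
  have hpow1 : (LinearMap.funLeft F F σ : Module.End F (Fin (2 ^ f) → F)) ^ 2 ^ f = 1 := by
    rw [funLeft_pow, orderOf_dvd_iff_pow_eq_one.1 hσ.dvd]
    rfl
  have hdet : LinearMap.det (LinearMap.funLeft F F σ : Module.End F (Fin (2 ^ f) → F)) = 1 := by
    apply eq_one_of_two_pow (neg_one_eq_of_even hF hq) f
    rw [← map_pow, hpow1, map_one]
  have hT : Iso (prodForm B C)
      ((LinearMap.funLeft F F σ : Module.End F (Fin (2 ^ f) → F)).prodMap
        (1 : Module.End F (Fin (n - 2 ^ f) → F))) := iso_prod (hBs σ) Iso.one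
  have hd : LinearMap.det ((LinearMap.funLeft F F σ : Module.End F (Fin (2 ^ f) → F)).prodMap
        (1 : Module.End F (Fin (n - 2 ^ f) → F))) = 1 := by
    rw [det_prod, hdet, map_one, one_mul]
  obtain ⟨x, hx⟩ := exists_of_iso (isHerm_prod hB hC) hdim hn hT hd
  refine ⟨x, ?_⟩
  rw [← hσ]
  refine orderOf_eq_orderOf_iff.2 fun j => ?_
  rw [hx, prodMap_pow, one_pow, funLeft_pow]
  constructor
  · intro h
    have h3 : 0 < n - 2 ^ f := by omega
    have h2 := IsScal.eq_one h (x := ((0 : Fin (2 ^ f) → F), fun _ => (1 : F))) (by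
      intro h3'
      have h4 := congrFun (congrArg Prod.snd h3') ⟨0, h3⟩
      exact one_ne_zero h4) (by
      simp only [LinearMap.prodMap_apply, map_zero, Module.End.one_apply])
    apply funLeft_eq_one (F := F)
    refine LinearMap.ext fun v => ?_
    exact congrArg (fun w => w.1) (LinearMap.congr_fun h2 ((v, 0)))
  · intro h
    rw [h]
    refine ⟨1, fun x => ?_⟩
    rw [one_smul]
    rfl

end Cfsg.Agent.H29.TPPerm
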