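import Cfsg.Agent.Characters.Core

/-!
# Tensor powers of characters along a homomorphism to a wreath product (helper29)

* `Wr G A ι` : a homomorphism `G → A ≀ Sym(ι)`, as a permutation action and a multiplier `a g i : A`;
* `Wr.exists_char` : a character `χ` of `A` gives a character `Ψ` of `G` with `Ψ g = ∏ i, χ (a g i)` for all `g`
  acting trivially on `ι`.
-/

set_option autoImplicit false

namespace Cfsg.Agent.H29.TensorWr

open Cfsg Cfsg.Agent.Characters.Core

universe u v w

/-- A homomorphism to a wreath product `A ≀ Sym(ι)`. -/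
structure Wr (G : Type u) (A : Type v) (ι : Type w) [Group G] [Group A] where
  /-- the permutation -/
  s : G →* Equiv.Perm ι
  /-- the multiplier from `i` to `s g i` -/
  a : G → ι → A
  one : ∀ i, a 1 i = 1
  mul : ∀ g h i, a (g * h) i = a g (s h i) * a h i

variable {G : Type u} {A : Type v} {ι : Type w} [Group G] [Group A] [Fintype ι]

/-- The matrix of the tensor power. -/
noncomputable def mat (W : Wr G A ι) {d : ℕ} (M : A →* Matrix (Fin d) (Fin d) ℂ) (g : G) :
    Matrix (ι → Fin d) (ι → Fin d) ℂ := fun x y => ∏ i, M (W.a g i) (x (W.s g i)) (y i)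

theorem mat_one [DecidableEq ι] (W : Wr G A ι) {d : ℕ} (M : A →* Matrix (Fin d) (Fin d) ℂ) : mat W M 1 = 1 := by
  ext x y
  unfold mat
  have h1 : ∀ i, M (W.a 1 i) (x (W.s 1 i)) (y i) = if x i = y i then (1 : ℂ) else 0 := by
    intro i
    rw [W.one, map_one, map_one, Equiv.Perm.one_apply, Matrix.one_apply]
  rw [Finset.prod_congr rfl fun i _ => h1 i, Matrix.one_apply]
  by_cases h : x = y
  · rw [if_pos h]
    exact Finset.prod_eq_one fun i _ => if_pos (congrFun h i)
  · rw [if_neg h]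
    obtain ⟨i, hi⟩ := Function.ne_iff.1 h
    exact Finset.prod_eq_zero (Finset.mem_univ i) (if_neg hi)

theorem mat_mul [DecidableEq ι] (W : Wr G A ι) {d : ℕ} (M : A →* Matrix (Fin d) (Fin d) ℂ) (g h : G) :
    mat W M (g * h) = mat W M g * mat W M h := by
  ext x z
  rw [Matrix.mul_apply]
  have h1 : mat W M (g * h) x z = ∏ i, ∑ j, M (W.a g (W.s h i)) (x (W.s g (W.s h i))) j * M (W.a h i) j (z i) := by
    unfold mat
    refine Finset.prod_congr rfl fun i _ => ?_
    rw [W.mul, map_mul, map_mul, Matrix.mul_apply, Equiv.Perm.mul_apply]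
  rw [h1, Finset.prod_univ_sum, Fintype.piFinset_univ]
  refine (Fintype.sum_equiv (Equiv.arrowCongr (W.s h) (Equiv.refl (Fin d))) _ _ fun y => ?_)
  unfold mat
  rw [← Equiv.prod_comp (W.s h) (fun i => M (W.a g i) (x (W.s g i)) _), ← Finset.prod_mul_distrib]
  refine Finset.prod_congr rfl fun i _ => ?_
  simp [Equiv.arrowCongr]

theorem trace_mat [DecidableEq ι] (W : Wr G A ι) {d : ℕ} (M : A →* Matrix (Fin d) (Fin d) ℂ) {g : G}
    (hg : W.s g = 1) : (mat W M g).trace = ∏ i, (M (W.a g i)).trace := by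
  unfold Matrix.trace
  rw [Finset.prod_univ_sum, Fintype.piFinset_univ]
  refine Finset.sum_congr rfl fun x _ => ?_
  change (∏ i, M (W.a g i) (x (W.s g i)) (x i)) = ∏ i, M (W.a g i) (x i) (x i)
  refine Finset.prod_congr rfl fun i _ => ?_
  rw [hg, Equiv.Perm.one_apply]

/-- **Tensor powers** along a homomorphism to a wreath product. -/
theorem Wr.exists_char (W : Wr G A ι) {χ : A → ℂ} (hχ : IsCharacter A χ) :
    ∃ Ψ : G → ℂ, IsCharacter G Ψ ∧ ∀ g : G, W.s g = 1 → Ψ g = ∏ i, χ (W.a g i) := by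
  classical
  obtain ⟨d, ρ, rfl⟩ := hχ
  let M : A →* Matrix (Fin d) (Fin d) ℂ :=
    ((LinearMap.toMatrixAlgEquiv' : ((Fin d → ℂ) →ₗ[ℂ] (Fin d → ℂ)) ≃ₐ[ℂ] Matrix (Fin d) (Fin d) ℂ) :
      ((Fin d → ℂ) →ₗ[ℂ] (Fin d → ℂ)) →* Matrix (Fin d) (Fin d) ℂ).comp ρ
  let R : Representation ℂ G ((ι → Fin d) → ℂ) :=
    { toFun := fun g => Matrix.toLin' (mat W M g)
      map_one' := by rw [mat_one, Matrix.toLin'_one]; rfl
      map_mul' := fun g h => by rw [mat_mul, Matrix.toLin'_mul]; rfl }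
  refine ⟨R.character, isCharacter_of_rep R, fun g hg => ?_⟩
  have h1 : R.character g = (mat W M g).trace := by
    change LinearMap.trace ℂ _ (Matrix.toLin' (mat W M g)) = _
    rw [Matrix.trace_toLin'_eq]
  rw [h1, trace_mat W M hg]
  refine Finset.prod_congr rfl fun i _ => ?_
  change (LinearMap.toMatrix' (ρ (W.a g i))).trace = LinearMap.trace ℂ _ (ρ (W.a g i))
  rw [← Matrix.trace_toLin'_eq, Matrix.toLin'_toMatrix']

end Cfsg.Agent.H29.TensorWr
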