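import Cfsg.Agent.H29.TitsRep
import Cfsg.Agent.H29.TitsWalk
import Cfsg.Agent.Mrg.Omega.TitsIso.Main

/-!
# The `27`-dimensional representation of the Tits group: the homomorphism

`exists_hom` : there is a homomorphism `σ : T →* GL 27 ℂ` with `σ (ZC i) = ZG (i + 1)`, where `T` is the derived subgroup
of `²F₄(2)` and `ZC i` are its eight involutions.
-/

set_option autoImplicit false

namespace Cfsg.Agent.H29.TitsHom

open Cfsg.Agent.H29.TitsMat Cfsg.Agent.Omega.TitsIso Cfsg.Agent.Omega.TitsIso.TitsSideRel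
  Cfsg.Agent.Omega.TitsIso.TitsSide

/-! ### rational Gaussian numbers -/

/-- the numbers with rational coordinates -/
def QI : Subring ℂ where
  carrier := {z | ∃ x y : ℚ, z = x + y * Complex.I}
  mul_mem' := by
    rintro _ _ ⟨x, y, rfl⟩ ⟨u, v, rfl⟩
    refine ⟨x * u - y * v, x * v + y * u, ?_⟩
    push_cast
    linear_combination (y * v : ℂ) * Complex.I_mul_I
  one_mem' := ⟨1, 0, by simp⟩
  add_mem' := by
    rintro _ _ ⟨x, y, rfl⟩ ⟨u, v, rfl⟩
    exact ⟨x + u, y + v, by push_cast; ring⟩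
  zero_mem' := ⟨0, 0, by simp⟩
  neg_mem' := by
    rintro _ ⟨x, y, rfl⟩
    exact ⟨-x, -y, by push_cast; ring⟩

theorem eq_one_of_cube {z : ℂ} (hz : z ∈ QI) (h : z ^ 3 = 1) : z = 1 := by
  obtain ⟨x, y, rfl⟩ := hz
  have h1 : ((x : ℂ) + y * Complex.I - 1) * (((x : ℂ) + y * Complex.I) ^ 2 + ((x : ℂ) + y * Complex.I) + 1) = 0 := by
    linear_combination h
  rcases mul_eq_zero.1 h1 with h2 | h2
  · exact sub_eq_zero.1 h2
  exfalso
  have h3 : (((x ^ 2 - y ^ 2 + x + 1 : ℚ) : ℝ) : ℂ) + (((2 * x * y + y : ℚ) : ℝ) : ℂ) * Complex.I = 0 := by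
    push_cast
    linear_combination h2 + (-(y : ℂ) ^ 2) * Complex.I_mul_I
  have hre := congrArg Complex.re h3
  have him := congrArg Complex.im h3
  rw [Complex.add_re, Complex.re_ofReal_mul, Complex.ofReal_re, Complex.I_re, mul_zero, add_zero, Complex.zero_re] at hre
  rw [Complex.add_im, Complex.im_ofReal_mul, Complex.ofReal_im, Complex.I_im, mul_one, zero_add, Complex.zero_im] at him
  have hre' : x ^ 2 - y ^ 2 + x + 1 = 0 := by exact_mod_cast hre
  have him' : 2 * x * y + y = 0 := by exact_mod_cast him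
  have h4 : y * (2 * x + 1) = 0 := by linear_combination him'
  rcases mul_eq_zero.1 h4 with rfl | h5
  · nlinarith [sq_nonneg (2 * x + 1)]
  · have hx : x = -1 / 2 := by linarith
    subst hx
    have h6 : (2 * y) * (2 * y) = 3 := by linear_combination (-4) * hre'
    have h7 : IsSquare (3 : ℚ) := ⟨2 * y, h6.symm⟩
    have h8 : ¬ IsSquare (3 : ℚ) := by
      rw [Rat.isSquare_iff]
      rintro ⟨⟨n, hn⟩, -⟩
      have hn' : (3 : ℤ) = n * n := hn
      have h9 : n < 2 := by nlinarith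
      have h10 : -2 < n := by nlinarith
      interval_cases n <;> omega
    exact h8 h7

theorem eq_one_of_pow {z : ℂ} (hz : z ∈ QI) (h : z ^ 27 = 1) : z = 1 := by
  have h1 : z ^ 9 = 1 := eq_one_of_cube (pow_mem hz 9) (by rw [← pow_mul]; exact h)
  have h2 : z ^ 3 = 1 := eq_one_of_cube (pow_mem hz 3) (by rw [← pow_mul]; exact h1)
  exact eq_one_of_cube hz h2

/-- the matrices with coordinates in `QI` -/
def EF : Subgroup (GL (Fin 27) ℂ) where
  carrier := {m | (∀ i j, (m : Matrix (Fin 27) (Fin 27) ℂ) i j ∈ QI) ∧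
    ∀ i j, ((m⁻¹ : GL (Fin 27) ℂ) : Matrix (Fin 27) (Fin 27) ℂ) i j ∈ QI}
  mul_mem' := by
    rintro a b ⟨h1, h2⟩ ⟨h3, h4⟩
    refine ⟨fun i j => ?_, fun i j => ?_⟩
    · rw [Units.val_mul, Matrix.mul_apply]
      exact sum_mem fun k _ => mul_mem (h1 i k) (h3 k j)
    · rw [mul_inv_rev, Units.val_mul, Matrix.mul_apply]
      exact sum_mem fun k _ => mul_mem (h4 i k) (h2 k j)
  one_mem' := by
    have h : ∀ i j, ((1 : GL (Fin 27) ℂ) : Matrix (Fin 27) (Fin 27) ℂ) i j ∈ QI := by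
      intro i j
      rw [Units.val_one, Matrix.one_apply]
      split
      · exact one_mem _
      · exact zero_mem _
    exact ⟨h, by rw [inv_one]; exact h⟩
  inv_mem' := by
    rintro a ⟨h1, h2⟩
    exact ⟨h2, by rw [inv_inv]; exact h1⟩

/-- the embedding of the Gaussian integers -/
noncomputable abbrev phi : GaussianInt →+* ℂ := GaussianInt.toComplex

theorem phi_mem (z : GaussianInt) : phi z ∈ QI := by
  refine ⟨z.re, z.im, ?_⟩
  rw [phi, GaussianInt.toComplex_def]
  push_cast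
  rfl

theorem GM_mem (a : ℕ) (i j : Fin 27) : GM phi a i j ∈ QI := by
  rw [GM_apply]
  refine mul_mem ⟨4⁻¹, 0, by push_cast; ring⟩ (phi_mem _)

theorem ZG_mem (i : ZMod 8) : ZG phi i ∈ EF := ⟨GM_mem _, GM_mem _⟩

/-! ### the line of the first basis vector -/

/-- the matrices whose first column is `± e₀` -/
def LS : Subgroup (GL (Fin 27) ℂ) where
  carrier := {m | ∃ c : ℂ, (c = 1 ∨ c = -1) ∧ ∀ i, (m : Matrix (Fin 27) (Fin 27) ℂ) i 0 = if i = 0 then c else 0}
  mul_mem' := by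
    rintro a b ⟨c, hc, h1⟩ ⟨d, hd, h2⟩
    refine ⟨c * d, ?_, fun i => ?_⟩
    · rcases hc with rfl | rfl <;> rcases hd with rfl | rfl <;> simp
    · rw [Units.val_mul, Matrix.mul_apply, Finset.sum_eq_single 0]
      · rw [h1, h2, if_pos rfl]
        split <;> simp
      · intro t _ ht
        rw [h2, if_neg ht, mul_zero]
      · exact fun h => absurd (Finset.mem_univ _) h
  one_mem' := ⟨1, Or.inl rfl, fun i => by rw [Units.val_one, Matrix.one_apply]⟩
  inv_mem' := by
    rintro a ⟨c, hc, h1⟩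
    have hcc : c * c = 1 := by rcases hc with rfl | rfl <;> norm_num
    refine ⟨c, hc, fun i => ?_⟩
    have h2 : ((a⁻¹ : GL (Fin 27) ℂ) : Matrix (Fin 27) (Fin 27) ℂ) * (a : Matrix (Fin 27) (Fin 27) ℂ) = 1 := by
      rw [← Units.val_mul, inv_mul_cancel, Units.val_one]
    have h3 := congrFun (congrFun h2 i) 0
    rw [Matrix.mul_apply, Finset.sum_eq_single 0, h1, if_pos rfl, Matrix.one_apply] at h3
    · calc _ = ((a⁻¹ : GL (Fin 27) ℂ) : Matrix (Fin 27) (Fin 27) ℂ) i 0 * (c * c) := by rw [hcc, mul_one]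
        _ = (if i = 0 then 1 else 0) * c := by rw [← h3]; ring
        _ = if i = 0 then c else 0 := by split <;> simp
    · intro t _ ht
      rw [h1, if_neg ht, mul_zero]
    · exact fun h => absurd (Finset.mem_univ _) h

theorem col_pos : ∀ a ∈ [z0, z1, z2, cm, c2], ∀ i : Fin 27, nib a (27 * i + (0 : Fin 27)) = if i = 0 then 5 else 0 := by
  decide +kernel

theorem col_min : ∀ a ∈ [z3, z7], ∀ i : Fin 27, nib a (27 * i + (0 : Fin 27)) = if i = 0 then 7 else 0 := by
  decide +kernel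

theorem col_gg : nib gg (27 * (0 : Fin 27) + (0 : Fin 27)) = 6 := by
  decide +kernel

theorem mem_LS_of_pos {m : GL (Fin 27) ℂ} {a : ℕ} (h : V phi m a) (ha : a ∈ [z0, z1, z2, cm, c2]) : m ∈ LS := by
  refine ⟨1, Or.inl rfl, fun i => ?_⟩
  rw [h, GM_apply, col_pos a ha i]
  split
  · have : gs 5 = 4 := rfl
    rw [this, map_ofNat]
    norm_num
  · have : gs 0 = 0 := rfl
    rw [this, map_zero, mul_zero]

theorem mem_LS_of_neg {m : GL (Fin 27) ℂ} {a : ℕ} (h : V phi m a) (ha : a ∈ [z3, z7]) : m ∈ LS := by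
  refine ⟨-1, Or.inr rfl, fun i => ?_⟩
  rw [h, GM_apply, col_min a ha i]
  split
  · have : gs 7 = -4 := rfl
    rw [this, map_neg, map_ofNat]
    norm_num
  · have : gs 0 = 0 := rfl
    rw [this, map_zero, mul_zero]

theorem not_mem_LS {m : GL (Fin 27) ℂ} (h : V phi m gg) : m ∉ LS := by
  rintro ⟨c, hc, h1⟩
  have h2 := h1 0
  rw [if_pos rfl, h, GM_apply, col_gg] at h2
  have h3 : gs 6 = ⟨0, 4⟩ := rfl
  rw [h3, phi, GaussianInt.toComplex_def] at h2
  have h4 := congrArg Complex.re h2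
  rcases hc with rfl | rfl <;> simp at h4

/-! ### consequences of the relations -/

section Rel

variable {M : Type*} [Group M] {Z : ZMod 8 → M}

/-- Consecutive involutions are conjugate. -/
theorem conj_succ (h : TitsRel Z) (i : ZMod 8) : ∃ g, g * Z (i + 2) * g⁻¹ = Z (i + 3) := by
  have h1 := h.r i
  have h2 := h.l (i + 4)
  have e1 : i + 4 - 2 = i + 2 := by ring
  have e2 : i + 4 - 1 = i + 3 := by ring
  rw [e1, e2] at h2
  have h3 := h.c1 (i + 2)
  have e3 : i + 2 + 1 = i + 3 := by ring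
  rw [e3] at h3
  refine ⟨(C Z i)⁻¹ * C Z (i + 4), ?_⟩
  calc (C Z i)⁻¹ * C Z (i + 4) * Z (i + 2) * ((C Z i)⁻¹ * C Z (i + 4))⁻¹
      = (C Z i)⁻¹ * (C Z (i + 4) * Z (i + 2) * (C Z (i + 4))⁻¹) * C Z i := by group
    _ = (C Z i)⁻¹ * (Z (i + 2) * Z (i + 3)) * C Z i := by rw [h2, ← h3]
    _ = Z (i + 3) := by rw [← h1]; group

theorem conj_zero (h : TitsRel Z) (i : ZMod 8) : ∃ g, g * Z 0 * g⁻¹ = Z i := by
  have key : ∀ n : ℕ, ∃ g, g * Z 0 * g⁻¹ = Z (n : ZMod 8) := by
    intro n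
    induction n with
    | zero => exact ⟨1, by simp⟩
    | succ n ih =>
      obtain ⟨g, hg⟩ := ih
      obtain ⟨k, hk⟩ := conj_succ h ((n : ZMod 8) - 2)
      refine ⟨k * g, ?_⟩
      have e1 : (n : ZMod 8) - 2 + 2 = n := by ring
      have e2 : (n : ZMod 8) - 2 + 3 = ((n + 1 : ℕ) : ZMod 8) := by push_cast; ring
      rw [e1, e2] at hk
      rw [← hk, ← hg]
      group
  obtain ⟨g, hg⟩ := key i.val
  rw [ZMod.natCast_zmod_val] at hg
  exact ⟨g, hg⟩

theorem TitsRel_abelian {A : Type*} [CommGroup A] (h : TitsRel Z) (f : M →* A) (i : ZMod 8) : f (Z i) = 1 := by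
  have h1 := congrArg f (h.r (i - 2))
  have e : i - 2 + 2 = i := by ring
  rw [e, map_mul, map_mul, map_mul, map_inv, mul_comm (f (C Z (i - 2))), mul_inv_cancel_right] at h1
  exact (right_eq_mul.1 h1)

end Rel

/-! ### the product -/

theorem titsRel_shift {M : Type*} [Group M] {Z : ZMod 8 → M} (h : TitsRel Z) (k : ZMod 8) :
    TitsRel (fun i => Z (i + k)) := by
  have hC : ∀ i, C (fun i => Z (i + k)) i = C Z (i + k) := by
    intro i
    unfold C
    beta_reduce
    rw [show i - 1 + k = i + k - 1 by ring, show i + 2 + k = i + k + 2 by ring, show i + 1 + k = i + k + 1 by ring]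
  refine ⟨fun i => h.sq _, fun i => ?_, fun i => ?_, fun i => ?_, fun i => ?_, fun i => ?_, fun i => ?_⟩
  · rw [show i + 1 + k = i + k + 1 by ring]; exact h.c1 _
  · rw [show i + 2 + k = i + k + 2 by ring]; exact h.c2 _
  · rw [show i + 3 + k = i + k + 3 by ring]; exact h.o4 _
  · rw [show i + 4 + k = i + k + 4 by ring]; exact h.o5 _
  · rw [hC, show i + 3 + k = i + k + 3 by ring, show i + 2 + k = i + k + 2 by ring]; exact h.r _
  · rw [hC, show i - 2 + k = i + k - 2 by ring, show i - 1 + k = i + k - 1 by ring]; exact h.l _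

/-- the derived subgroup of `²F₄(2)` -/
abbrev T : Type := ↥(commutator ChevalleyStructure.Tits.Order.H0)

/-- the eight involutions, rotated -/
noncomputable def Zg (i : ZMod 8) : GL (Fin 27) ℂ := ZG phi (i + 1)

theorem titsRel_Zg : TitsRel Zg := titsRel_shift (titsRel_ZG phi) 1

theorem C_Zg (i : ZMod 8) : C Zg i = C (ZG phi) (i + 1) := by
  unfold C Zg
  rw [show i - 1 + 1 = i + 1 - 1 by ring, show i + 2 + 1 = i + 1 + 2 by ring]

/-- The first involutions and their products are in `LS`. -/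
theorem Zg_mem_LS : Zg (-2) ∈ LS ∧ Zg (-1) ∈ LS ∧ Zg 0 ∈ LS ∧ Zg 1 ∈ LS ∧ Zg 2 ∈ LS ∧ C Zg (-2) ∈ LS ∧
    C Zg (-1) ∈ LS ∧ C Zg 0 ∈ LS ∧ C Zg 1 ∈ LS := by
  have a7 : ZG phi 7 ∈ LS := mem_LS_of_neg (vz7 phi) (by simp)
  have a0 : ZG phi 0 ∈ LS := mem_LS_of_pos (vz0 phi) (by simp)
  have a1 : ZG phi 1 ∈ LS := mem_LS_of_pos (vz1 phi) (by simp)
  have a2 : ZG phi 2 ∈ LS := mem_LS_of_pos (vz2 phi) (by simp)
  have a3 : ZG phi 3 ∈ LS := mem_LS_of_neg (vz3 phi) (by simp)
  refine ⟨a7, a0, a1, a2, a3, ?_, ?_, ?_, ?_⟩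
  · rw [C_Zg]
    exact mem_LS_of_pos (vcm phi) (by simp)
  · rw [C_Zg]
    exact mul_mem (pow_mem (mul_mem a7 a2) 2) (mul_mem a0 a1)
  · rw [C_Zg]
    exact mul_mem (pow_mem (mul_mem a0 a3) 2) (mul_mem a1 a2)
  · rw [C_Zg]
    exact mem_LS_of_pos (vc2 phi) (by simp)

/-- the word of the element of the centraliser of the first involution -/
def gw {M : Type*} [Group M] (Z : ZMod 8 → M) : M := Z 4 * Z 1 * Z 6 * (Z 4 * Z 1 * Z 6) * (Z 7 * Z 3)

theorem v_gw : V phi (gw Zg) gg := by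
  have h1 := ((vz5 phi).mul (vz2 phi) k_z5_z2).mul (vz7 phi) k_h1_z7
  exact (h1.mul h1 k_h2_h2).mul ((vz0 phi).mul (vz4 phi) k_z0_z4) k_h3_f1

theorem gw_comm_Zg : gw Zg * Zg 0 = Zg 0 * gw Zg :=
  (v_gw.mul (vz1 phi) k_gg_z1).eq ((vz1 phi).mul v_gw k_z1_gg)

theorem gw_chk : ChevalleyStructure.Tits.Data.chk (zz ([4, 1, 6, 4, 1, 6, 7, 3] ++ [0]), zz ([0] ++ [4, 1, 6, 4, 1, 6, 7, 3])) = true := by
  decide +kernel

theorem gw_comm_ZC : gw ZC * ZC 0 = ZC 0 * gw ZC := by
  apply Subtype.ext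
  have h := rel_zz gw_chk
  simp only [List.map_append, List.prod_append, List.map_cons, List.map_nil, List.prod_cons, List.prod_nil,
    mul_one, mul_assoc] at h
  change gw ZH * ZH 0 = ZH 0 * gw ZH
  unfold gw
  simp only [mul_assoc]
  exact h

instance finite_T : Finite T := Subtype.finite

instance simple_T : IsSimpleGroup T := ChevalleyStructure.Tits.Main.H0_result.2.1

theorem det_of_det {m : GL (Fin 27) ℂ} (h : Matrix.GeneralLinearGroup.det m = 1) :
    Matrix.det (m : Matrix (Fin 27) (Fin 27) ℂ) = 1 := by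
  rw [← Matrix.GeneralLinearGroup.val_det_apply, h, Units.val_one]

/-- **The homomorphism.** -/
theorem exists_hom : ∃ σ : T →* GL (Fin 27) ℂ, ∀ i, σ (ZC i) = Zg i := by
  classical
  set S : Subgroup (GL (Fin 27) ℂ × T) := Subgroup.closure (Set.range (Zp Zg ZC)) with hS
  have hmem : ∀ i, Zp Zg ZC i ∈ S := fun i => Subgroup.subset_closure ⟨i, rfl⟩
  set Z : ZMod 8 → S := fun i => ⟨Zp Zg ZC i, hmem i⟩ with hZ
  have hrel : TitsRel Z := TitsRel.of_injective S.subtype S.subtype_injective (titsRel_Zg.prod Model.titsRel_ZC)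
  have hgen : Subgroup.closure (Set.range Z) = ⊤ := by
    apply Subgroup.map_injective S.subtype_injective
    rw [MonoidHom.map_closure, ← Set.range_comp, ← MonoidHom.range_eq_map, Subgroup.range_subtype]
    exact hS.symm
  obtain ⟨hidx, hidx0⟩ := indexLe S Z hrel hgen
  set p1 : S →* GL (Fin 27) ℂ := (MonoidHom.fst (GL (Fin 27) ℂ) T).comp S.subtype with hp1
  set p2 : S →* T := (MonoidHom.snd (GL (Fin 27) ℂ) T).comp S.subtype with hp2
  have hp1Z : ∀ i, p1 (Z i) = Zg i := fun i => rfl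
  have hp2Z : ∀ i, p2 (Z i) = ZC i := fun i => rfl
  have hp2s : Function.Surjective p2 := by
    rw [← MonoidHom.range_eq_top, eq_top_iff, ← closure_ZC, Subgroup.closure_le]
    rintro _ ⟨i, rfl⟩
    exact ⟨Z i, hp2Z i⟩
  have hext : ∀ m m' : S, p1 m = p1 m' → p2 m = p2 m' → m = m' := by
    intro m m' h1 h2
    apply Subtype.ext
    exact Prod.ext h1 h2
  -- the element of the centraliser
  have hg1 : p1 (gw Z) = gw Zg := by
    unfold gw
    simp only [map_mul, hp1Z]
  have hg2 : p2 (gw Z) = gw ZC := by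
    unfold gw
    simp only [map_mul, hp2Z]
  have hgc : gw Z * Z 0 = Z 0 * gw Z := by
    apply hext
    · rw [map_mul, map_mul, hg1, hp1Z, gw_comm_Zg]
    · rw [map_mul, map_mul, hg2, hp2Z, gw_comm_ZC]
  have hC1 : ∀ i, p1 (C Z i) = C Zg i := by
    intro i
    unfold C
    simp only [map_mul, map_pow, hp1Z]
  have hle : Omega.TitsIso.H0 Z ≤ LS.comap p1 := by
    obtain ⟨b1, b2, b3, b4, b5, b6, b7, b8, b9⟩ := Zg_mem_LS
    rw [Omega.TitsIso.H0, Subgroup.closure_le]
    intro x hx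
    rw [SetLike.mem_coe, Subgroup.mem_comap]
    simp only [Set.mem_insert_iff, Set.mem_singleton_iff] at hx
    rcases hx with h' | h' | h' | h' | h' | h' | h' | h' | h'
    · rw [h', hp1Z (-2)]; exact b1
    · rw [h', hp1Z (-1)]; exact b2
    · rw [h', hp1Z 0]; exact b3
    · rw [h', hp1Z 1]; exact b4
    · rw [h', hp1Z 2]; exact b5
    · rw [h', hC1 (-2)]; exact b6
    · rw [h', hC1 (-1)]; exact b7
    · rw [h', hC1 0]; exact b8
    · rw [h', hC1 1]; exact b9
  have hgn : gw Z ∉ Omega.TitsIso.H0 Z := by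
    intro h
    have h1 := hle h
    rw [Subgroup.mem_comap, hg1] at h1
    exact not_mem_LS v_gw h1
  set Cz : Subgroup S := Subgroup.centralizer {Z 0} with hCz
  have hHC : Omega.TitsIso.H0 Z ≤ Cz := hrel.H0_le_centralizer
  have hgC : gw Z ∈ Cz := by
    rw [hCz, Subgroup.mem_centralizer_singleton_iff]
    exact hgc
  have hmul := Subgroup.relIndex_mul_index hHC
  have hr1 : (Omega.TitsIso.H0 Z).relIndex Cz ≠ 1 := by
    rw [Ne, Subgroup.relIndex_eq_one]
    exact fun h => hgn (h hgC)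
  have hr0 : (Omega.TitsIso.H0 Z).relIndex Cz ≠ 0 := by
    intro h
    rw [h, zero_mul] at hmul
    exact hidx0 hmul.symm
  have hCi : Cz.index ≤ 1755 := by
    have h2 : 2 ≤ (Omega.TitsIso.H0 Z).relIndex Cz := by omega
    have h3 : 2 * Cz.index ≤ (Omega.TitsIso.H0 Z).relIndex Cz * Cz.index := Nat.mul_le_mul_right _ h2
    omega
  have hCi0 : Cz.index ≠ 0 := by
    intro h
    rw [h, mul_zero] at hmul
    exact hidx0 hmul.symm
  -- the preimage of the centraliser
  set D : Subgroup S := (Subgroup.centralizer {ZC 0}).comap p2 with hD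
  have hDi : D.index = (Subgroup.centralizer {ZC 0}).index := Subgroup.index_comap_of_surjective _ hp2s
  have hCD : Cz ≤ D := by
    intro x hx
    rw [hCz, Subgroup.mem_centralizer_singleton_iff] at hx
    rw [hD, Subgroup.mem_comap, Subgroup.mem_centralizer_singleton_iff, ← hp2Z, ← map_mul, ← map_mul, hx]
  have hmul2 := Subgroup.relIndex_mul_index hCD
  have hDC : D ≤ Cz := by
    rw [← Subgroup.relIndex_eq_one]
    by_contra h1
    have h0 : Cz.relIndex D ≠ 0 := by
      intro h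
      rw [h, zero_mul] at hmul2
      exact hCi0 hmul2.symm
    have h2 : 2 ≤ Cz.relIndex D := by omega
    have h3 : 2 * D.index ≤ Cz.relIndex D * D.index := Nat.mul_le_mul_right _ h2
    have h4 := Cfsg.Agent.H29.TitsWalk.le_index'
    rw [← hDi] at h4
    omega
  -- the kernel
  have hN0 : ∀ n ∈ p2.ker, n * Z 0 = Z 0 * n := by
    intro n hn
    have h1 : n ∈ D := by
      rw [hD, Subgroup.mem_comap, (MonoidHom.mem_ker).1 hn]
      exact one_mem _
    have h2 := hDC h1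
    rw [hCz, Subgroup.mem_centralizer_singleton_iff] at h2
    exact h2
  have hNi : ∀ n ∈ p2.ker, ∀ i, n * Z i = Z i * n := by
    intro n hn i
    obtain ⟨g, hg⟩ := conj_zero hrel i
    have h1 : g⁻¹ * n * g ∈ p2.ker := by
      have := (inferInstance : p2.ker.Normal).conj_mem n hn g⁻¹
      rwa [inv_inv] at this
    have h2 := hN0 _ h1
    rw [← hg]
    calc n * (g * Z 0 * g⁻¹) = g * (g⁻¹ * n * g * Z 0) * g⁻¹ := by group
      _ = g * (Z 0 * (g⁻¹ * n * g)) * g⁻¹ := by rw [h2]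
      _ = g * Z 0 * g⁻¹ * n := by group
  have hEF : ∀ m : S, p1 m ∈ EF := by
    have h1 : (⊤ : Subgroup S) ≤ EF.comap p1 := by
      rw [← hgen, Subgroup.closure_le]
      rintro _ ⟨i, rfl⟩
      exact ZG_mem (i + 1)
    exact fun m => h1 (Subgroup.mem_top m)
  have hdet : ∀ m : S, Matrix.det (p1 m : Matrix (Fin 27) (Fin 27) ℂ) = 1 := by
    have h1 : (⊤ : Subgroup S) ≤ (Matrix.GeneralLinearGroup.det.comp p1).ker := by
      rw [← hgen, Subgroup.closure_le]
      rintro _ ⟨i, rfl⟩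
      rw [SetLike.mem_coe, MonoidHom.mem_ker, MonoidHom.comp_apply, hp1Z]
      exact TitsRel_abelian titsRel_Zg Matrix.GeneralLinearGroup.det i
    intro m
    have h2 := h1 (Subgroup.mem_top m)
    rw [MonoidHom.mem_ker] at h2
    exact det_of_det h2
  have hker : p2.ker = ⊥ := by
    rw [eq_bot_iff]
    intro n hn
    rw [Subgroup.mem_bot]
    obtain ⟨c, hc⟩ := commutant phi (D := (p1 n : Matrix (Fin 27) (Fin 27) ℂ)) (fun i => by
      have h1 := congrArg p1 (hNi n hn (i - 1))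
      rw [map_mul, map_mul, hp1Z] at h1
      have h2 : Zg (i - 1) = ZG phi i := by unfold Zg; rw [sub_add_cancel]
      rw [h2] at h1
      exact congrArg (fun u : GL (Fin 27) ℂ => (u : Matrix (Fin 27) (Fin 27) ℂ)) h1)
    have h1 := hdet n
    rw [hc, Matrix.det_smul, Matrix.det_one, mul_one, Fintype.card_fin] at h1
    have h2 : c ∈ QI := by
      have h3 := (hEF n).1 0 0
      rw [hc, Matrix.smul_apply, Matrix.one_apply_eq, smul_eq_mul, mul_one] at h3
      exact h3
    have h3 := eq_one_of_pow h2 h1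
    apply hext
    · rw [map_one]
      apply Units.ext
      rw [hc, h3, one_smul, Units.val_one]
    · rw [map_one]
      exact (MonoidHom.mem_ker).1 hn
  have hinj : Function.Injective p2 := (MonoidHom.ker_eq_bot_iff p2).1 hker
  let e : S ≃* T := MulEquiv.ofBijective p2 ⟨hinj, hp2s⟩
  refine ⟨p1.comp e.symm.toMonoidHom, fun i => ?_⟩
  have h1 : e.symm (ZC i) = Z i := by
    rw [MulEquiv.symm_apply_eq]
    rfl
  change p1 (e.symm (ZC i)) = Zg i
  rw [h1, hp1Z]

end Cfsg.Agent.H29.TitsHom
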