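import Cfsg.Agent.H29.TitsMatData

/-!
# The `27`-dimensional representation of the Tits group: the kernel checks of the products
-/

set_option autoImplicit false

namespace Cfsg.Agent.H29.TitsMat

theorem k_rr_ri : chk rr ri one = true := by decide +kernel

theorem k_xx_xi : chk xx xi one = true := by decide +kernel

theorem k_z0_z0 : chk z0 z0 one = true := by decide +kernel

theorem k_z1_z1 : chk z1 z1 one = true := by decide +kernel

theorem k_z2_z2 : chk z2 z2 one = true := by decide +kernel

theorem k_z3_z3 : chk z3 z3 one = true := by decide +kernel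

theorem k_z4_z4 : chk z4 z4 one = true := by decide +kernel

theorem k_z5_z5 : chk z5 z5 one = true := by decide +kernel

theorem k_z6_z6 : chk z6 z6 one = true := by decide +kernel

theorem k_z7_z7 : chk z7 z7 one = true := by decide +kernel

theorem k_rr_z0 : chk rr z0 p0 = true := by decide +kernel

theorem k_z1_rr : chk z1 rr p0 = true := by decide +kernel

theorem k_rr_z1 : chk rr z1 p1 = true := by decide +kernel

theorem k_z2_rr : chk z2 rr p1 = true := by decide +kernel

theorem k_rr_z2 : chk rr z2 p2 = true := by decide +kernel

theorem k_z3_rr : chk z3 rr p2 = true := by decide +kernel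

theorem k_rr_z3 : chk rr z3 p3 = true := by decide +kernel

theorem k_z4_rr : chk z4 rr p3 = true := by decide +kernel

theorem k_rr_z4 : chk rr z4 p4 = true := by decide +kernel

theorem k_z5_rr : chk z5 rr p4 = true := by decide +kernel

theorem k_rr_z5 : chk rr z5 p5 = true := by decide +kernel

theorem k_z6_rr : chk z6 rr p5 = true := by decide +kernel

theorem k_rr_z6 : chk rr z6 p6 = true := by decide +kernel

theorem k_z7_rr : chk z7 rr p6 = true := by decide +kernel

theorem k_rr_z7 : chk rr z7 p7 = true := by decide +kernel

theorem k_z0_rr : chk z0 rr p7 = true := by decide +kernel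

theorem k_z0_z1 : chk z0 z1 d01 = true := by decide +kernel

theorem k_z1_z0 : chk z1 z0 d01 = true := by decide +kernel

theorem k_z0_z2 : chk z0 z2 d02 = true := by decide +kernel

theorem k_z2_z0 : chk z2 z0 d02 = true := by decide +kernel

theorem k_z0_z3 : chk z0 z3 e1 = true := by decide +kernel

theorem k_e1_e1 : chk e1 e1 e2 = true := by decide +kernel

theorem k_e2_e2 : chk e2 e2 one = true := by decide +kernel

theorem k_z0_z4 : chk z0 z4 f1 = true := by decide +kernel

theorem k_f1_f1 : chk f1 f1 f2 = true := by decide +kernel

theorem k_f2_f2 : chk f2 f2 f4 = true := by decide +kernel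

theorem k_f4_f1 : chk f4 f1 one = true := by decide +kernel

theorem k_z1_z2 : chk z1 z2 d12 = true := by decide +kernel

theorem k_e2_d12 : chk e2 d12 c1 = true := by decide +kernel

theorem k_c1_z4 : chk c1 z4 g1 = true := by decide +kernel

theorem k_z3_z4 : chk z3 z4 d34 = true := by decide +kernel

theorem k_d34_c1 : chk d34 c1 g1 = true := by decide +kernel

theorem k_z1_z4 : chk z1 z4 j1 = true := by decide +kernel

theorem k_j1_j1 : chk j1 j1 j2 = true := by decide +kernel

theorem k_z2_z3 : chk z2 z3 d23 = true := by decide +kernel

theorem k_j2_d23 : chk j2 d23 c2 = true := by decide +kernel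

theorem k_c2_z0 : chk c2 z0 l1 = true := by decide +kernel

theorem k_d01_c2 : chk d01 c2 l1 = true := by decide +kernel

theorem k_xx_z1 : chk xx z1 v1 = true := by decide +kernel

theorem k_z1_xx : chk z1 xx v1 = true := by decide +kernel

theorem k_xx_z2 : chk xx z2 v2 = true := by decide +kernel

theorem k_z2_xx : chk z2 xx v2 = true := by decide +kernel

theorem k_xx_z3 : chk xx z3 xi = true := by decide +kernel

theorem k_z3_xx : chk z3 xx xi = true := by decide +kernel

theorem k_xx_z4 : chk xx z4 v4 = true := by decide +kernel

theorem k_z4_xx : chk z4 xx v4 = true := by decide +kernel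

theorem k_xx_z5 : chk xx z5 v5 = true := by decide +kernel

theorem k_z5_xx : chk z5 xx v5 = true := by decide +kernel

theorem k_z7_z3 : chk z7 z3 a1 = true := by decide +kernel

theorem k_z3_z7 : chk z3 z7 b1 = true := by decide +kernel

theorem k_a1_z0 : chk a1 z0 a2 = true := by decide +kernel

theorem k_a2_b1 : chk a2 b1 a3 = true := by decide +kernel

theorem k_xx_z0 : chk xx z0 v0 = true := by decide +kernel

theorem k_a3_xx : chk a3 xx v0 = true := by decide +kernel

theorem k_b1_z4 : chk b1 z4 b2 = true := by decide +kernel

theorem k_b2_a1 : chk b2 a1 b3 = true := by decide +kernel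

theorem k_xx_z6 : chk xx z6 v6 = true := by decide +kernel

theorem k_b3_xx : chk b3 xx v6 = true := by decide +kernel

theorem k_b1_b1 : chk b1 b1 b4 = true := by decide +kernel

theorem k_b4_z3 : chk b4 z3 b5 = true := by decide +kernel

theorem k_xx_z7 : chk xx z7 v7 = true := by decide +kernel

theorem k_b5_xx : chk b5 xx v7 = true := by decide +kernel

theorem k_z5_z2 : chk z5 z2 h1 = true := by decide +kernel

theorem k_h1_z7 : chk h1 z7 h2 = true := by decide +kernel

theorem k_h2_h2 : chk h2 h2 h3 = true := by decide +kernel

theorem k_h3_f1 : chk h3 f1 gg = true := by decide +kernel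

theorem k_gg_z1 : chk gg z1 h4 = true := by decide +kernel

theorem k_z1_gg : chk z1 gg h4 = true := by decide +kernel

theorem k_z6_z1 : chk z6 z1 q1 = true := by decide +kernel

theorem k_q1_q1 : chk q1 q1 q2 = true := by decide +kernel

theorem k_z7_z0 : chk z7 z0 d70 = true := by decide +kernel

theorem k_q2_d70 : chk q2 d70 cm = true := by decide +kernel

end Cfsg.Agent.H29.TitsMat
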