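import Mathlib

/-!
# Certified products of `27 × 27` matrices over the Gaussian integers

The entries `0, 1, i, -1, -i, 4, 4i, -4, -4i` are coded by `0, …, 8`; a matrix is a natural number whose
hexadecimal digit at place `27 r + s` is the code of the entry `(r, s)`. `chk a b c = true` (evaluated by the
kernel) implies `A * B = 4 C`.
-/

set_option autoImplicit false

namespace Cfsg.Agent.H29.TitsMat

/-- residue modulo `1000001` of a code -/
def rs : ℕ → ℕ
  | 0 => 0
  | 1 => 1
  | 2 => 1000
  | 3 => 1000000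
  | 4 => 999001
  | 5 => 4
  | 6 => 4000
  | 7 => 999997
  | _ => 996001

/-- hexadecimal digit -/
def nib (a k : ℕ) : ℕ := Nat.land (a >>> (4 * k)) 15

/-- packed row -/
def pk (b : ℕ) : ℕ → ℕ → ℕ
  | 0, _ => 0
  | n + 1, j => rs (nib b j) + 281474976710656 * pk b n (j + 1)

/-- packed rows -/
def rows (b : ℕ) : ℕ → ℕ → List ℕ
  | 0, _ => []
  | n + 1, j => pk b 27 j :: rows b n (j + 27)

/-- combination of packed rows -/
def comb (a : ℕ) : List ℕ → ℕ → ℕ
  | [], _ => 0
  | r :: l, k => rs (nib a k) * r + comb a l (k + 1)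

/-- comparison of the digits -/
def dig (c : ℕ) : ℕ → ℕ → ℕ → Bool
  | 0, _, _ => true
  | n + 1, acc, k => Nat.beq (acc % 281474976710656 % 1000001) ((4 * rs (nib c k)) % 1000001) &&
      dig c n (acc / 281474976710656) (k + 1)

/-- comparison of the rows -/
def chkR (a c : ℕ) (rb : List ℕ) : ℕ → ℕ → Bool
  | 0, _ => true
  | n + 1, i => dig c 27 (comb a rb i) i && chkR a c rb n (i + 27)

/-- the check of a product -/
def chk (a b c : ℕ) : Bool := chkR a c (rows b 27 0) 27 0

/-- value of a sequence of digits -/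
def val : ℕ → (ℕ → ℕ) → ℕ
  | 0, _ => 0
  | n + 1, f => f 0 + 281474976710656 * val n (fun j => f (j + 1))

theorem val_add (n : ℕ) : ∀ f g : ℕ → ℕ, val n f + val n g = val n (fun j => f j + g j) := by
  induction n with
  | zero => intro f g; rfl
  | succ n ih =>
    intro f g
    simp only [val, ← ih]
    ring

theorem mul_val (n : ℕ) (c : ℕ) : ∀ f : ℕ → ℕ, c * val n f = val n (fun j => c * f j) := by
  induction n with
  | zero => intro f; rfl
  | succ n ih =>
    intro f
    simp only [val, ← ih]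
    ring

theorem val_zero (n : ℕ) : val n (fun _ => 0) = 0 := by
  induction n with
  | zero => rfl
  | succ n ih => simp only [val, ih]

theorem pk_eq (b n : ℕ) : ∀ j, pk b n j = val n (fun t => rs (nib b (j + t))) := by
  induction n with
  | zero => intro j; rfl
  | succ n ih =>
    intro j
    simp only [pk, val, ih, add_zero]
    congr 3
    funext t
    rw [add_assoc, add_comm 1 t]

theorem comb_eq (a b n : ℕ) : ∀ j k, comb a (rows b n j) k =
    val 27 (fun s => ∑ t ∈ Finset.range n, rs (nib a (k + t)) * rs (nib b (j + 27 * t + s))) := by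
  induction n with
  | zero =>
    intro j k
    simp only [rows, comb, Finset.range_zero, Finset.sum_empty]
    exact (val_zero 27).symm
  | succ n ih =>
    intro j k
    simp only [rows, comb, ih, pk_eq, mul_val, val_add]
    congr 1
    funext s
    rw [Finset.sum_range_succ', add_comm]
    congr 1
    refine Finset.sum_congr rfl fun t _ => ?_
    rw [show k + 1 + t = k + (t + 1) by ring, show j + 27 + 27 * t + s = j + 27 * (t + 1) + s by ring]

theorem dig_spec (c n : ℕ) : ∀ (f : ℕ → ℕ) (k : ℕ), (∀ s, f s < 281474976710656) → dig c n (val n f) k = true →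
    ∀ s < n, f s % 1000001 = (4 * rs (nib c (k + s))) % 1000001 := by
  induction n with
  | zero => intro f k _ _ s hs; exact absurd hs (Nat.not_lt_zero s)
  | succ n ih =>
    intro f k hf h s hs
    have h1 : val (n + 1) f % 281474976710656 = f 0 := by
      simp only [val]
      rw [Nat.add_mul_mod_self_left, Nat.mod_eq_of_lt (hf 0)]
    have h2 : val (n + 1) f / 281474976710656 = val n (fun j => f (j + 1)) := by
      simp only [val]
      rw [Nat.add_mul_div_left _ _ (by norm_num), Nat.div_eq_of_lt (hf 0), zero_add]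
    rw [dig, h1, h2, Bool.and_eq_true] at h
    obtain ⟨h3, h4⟩ := h
    rcases s with _ | s
    · exact Nat.eq_of_beq_eq_true h3
    · have h5 := ih (fun j => f (j + 1)) (k + 1) (fun s => hf _) h4 s (by omega)
      rw [show k + (s + 1) = k + 1 + s by ring]
      exact h5

theorem rs_le (n : ℕ) : rs n ≤ 1000000 := by
  unfold rs
  split <;> norm_num

theorem row_mod (a b c i k : ℕ) (h : dig c 27 (comb a (rows b 27 0) i) k = true) :
    ∀ s < 27, (∑ t ∈ Finset.range 27, rs (nib a (i + t)) * rs (nib b (27 * t + s))) % 1000001 =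
      (4 * rs (nib c (k + s))) % 1000001 := by
  rw [comb_eq] at h
  intro s hs
  have h1 := dig_spec c 27 _ k (fun s => ?_) h s hs
  · rw [← h1]
    refine congrArg (· % 1000001) (Finset.sum_congr rfl fun t _ => ?_)
    rw [zero_add]
  · calc _ ≤ ∑ t ∈ Finset.range 27, 1000000 * 1000000 :=
          Finset.sum_le_sum fun t _ => Nat.mul_le_mul (rs_le _) (rs_le _)
      _ < 281474976710656 := by simp

/-- the Gaussian integer of a code -/
def gs : ℕ → GaussianInt
  | 0 => ⟨0, 0⟩
  | 1 => ⟨1, 0⟩
  | 2 => ⟨0, 1⟩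
  | 3 => ⟨-1, 0⟩
  | 4 => ⟨0, -1⟩
  | 5 => ⟨4, 0⟩
  | 6 => ⟨0, 4⟩
  | 7 => ⟨-4, 0⟩
  | _ => ⟨0, -4⟩

theorem gs_abs (n : ℕ) : |(gs n).re| + |(gs n).im| ≤ 4 := by
  unfold gs
  split <;> simp

/-- reduction of the Gaussian integers -/
noncomputable def psi : GaussianInt →+* ZMod 1000001 :=
  Zsqrtd.lift ⟨1000, by norm_num; exact (by decide +kernel : (1000000 : ZMod 1000001) = -1)⟩

theorem psi_apply (z : GaussianInt) : psi z = (z.re : ZMod 1000001) + z.im * 1000 := rfl

theorem psi_gs (n : ℕ) : psi (gs n) = (rs n : ℕ) := by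
  rw [psi_apply]
  unfold gs rs
  split <;> simp <;> decide +kernel

theorem eq_zero_of_psi {z : GaussianInt} (h : psi z = 0) (h1 : |z.re| ≤ 448) (h2 : |z.im| ≤ 448) : z = 0 := by
  have h3 : ((z.re ^ 2 + z.im ^ 2 : ℤ) : ZMod 1000001) = 0 := by
    have h4 : ((z.re : ZMod 1000001) + z.im * 1000) * ((z.re : ZMod 1000001) - z.im * 1000) = 0 := by
      rw [← psi_apply, h, zero_mul]
    have h5 : (1000000 : ZMod 1000001) = -1 := by decide +kernel
    push_cast
    linear_combination h4 + (z.im : ZMod 1000001) ^ 2 * h5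
  rw [ZMod.intCast_zmod_eq_zero_iff_dvd] at h3
  have h4 := sq_le_sq' (by linarith [abs_nonneg z.re] : -448 ≤ |z.re|) h1
  have h5 := sq_le_sq' (by linarith [abs_nonneg z.im] : -448 ≤ |z.im|) h2
  rw [sq_abs] at h4 h5
  have h6 : z.re ^ 2 + z.im ^ 2 = 0 := by
    refine Int.eq_zero_of_dvd_of_nonneg_of_lt (by positivity) ?_ h3
    norm_num
    linarith
  have h7 : z.re = 0 := by nlinarith [sq_nonneg z.re, sq_nonneg z.im]
  have h8 : z.im = 0 := by nlinarith [sq_nonneg z.re, sq_nonneg z.im]
  exact Zsqrtd.ext h7 h8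

/-- the sup norm of a Gaussian integer, in the form of a sum -/
def nm (z : GaussianInt) : ℤ := |z.re| + |z.im|

theorem nm_add (z w : GaussianInt) : nm (z + w) ≤ nm z + nm w := by
  unfold nm
  rw [Zsqrtd.re_add, Zsqrtd.im_add]
  have := abs_add_le z.re w.re
  have := abs_add_le z.im w.im
  linarith

theorem nm_neg (z : GaussianInt) : nm (-z) = nm z := by
  unfold nm
  rw [Zsqrtd.re_neg, Zsqrtd.im_neg, abs_neg, abs_neg]

theorem nm_mul (z w : GaussianInt) : nm (z * w) ≤ nm z * nm w := by
  unfold nm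
  rw [Zsqrtd.re_mul, Zsqrtd.im_mul]
  have h1 := abs_add_le (z.re * w.re) (-1 * z.im * w.im)
  have h2 := abs_add_le (z.re * w.im) (z.im * w.re)
  rw [abs_mul, abs_mul, abs_mul, abs_neg, abs_one, one_mul] at h1
  rw [abs_mul, abs_mul] at h2
  nlinarith

theorem nm_sum {ι : Type*} (s : Finset ι) (f : ι → GaussianInt) : nm (∑ i ∈ s, f i) ≤ ∑ i ∈ s, nm (f i) := by
  classical
  induction s using Finset.induction_on with
  | empty => simp [nm]
  | insert a s ha ih =>
    rw [Finset.sum_insert ha, Finset.sum_insert ha]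
    exact (nm_add _ _).trans (by linarith)

theorem nm_nonneg (z : GaussianInt) : 0 ≤ nm z := add_nonneg (abs_nonneg _) (abs_nonneg _)

theorem nm_gs_mul (a b : ℕ) : nm (gs a * gs b) ≤ 16 := by
  refine (nm_mul _ _).trans ?_
  have h := mul_le_mul (gs_abs a) (gs_abs b) (nm_nonneg _) (by norm_num)
  exact h.trans (by norm_num)

theorem nm_four (a : ℕ) : nm (4 * gs a) ≤ 16 := by
  have h6 : (4 : GaussianInt) = gs 5 := rfl
  rw [h6]
  exact nm_gs_mul _ _

theorem nm_row (f : ℕ → ℕ) (g : ℕ → ℕ) (x : ℕ) :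
    nm (∑ t ∈ Finset.range 27, gs (f t) * gs (g t) - 4 * gs x) ≤ 448 := by
  rw [sub_eq_add_neg]
  refine (nm_add _ _).trans ?_
  rw [nm_neg]
  have h4 : nm (∑ t ∈ Finset.range 27, gs (f t) * gs (g t)) ≤ 432 := by
    refine (nm_sum _ _).trans ?_
    calc _ ≤ ∑ t ∈ Finset.range 27, (16 : ℤ) := Finset.sum_le_sum fun t _ => nm_gs_mul _ _
      _ = 432 := by simp
  have h5 := nm_four x
  linarith

/-- **Soundness** of the check of a row. -/
theorem row_spec (a b c i k : ℕ) (h : dig c 27 (comb a (rows b 27 0) i) k = true) (s : ℕ) (hs : s < 27) :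
    ∑ t ∈ Finset.range 27, gs (nib a (i + t)) * gs (nib b (27 * t + s)) = 4 * gs (nib c (k + s)) := by
  have h1 := row_mod a b c i k h s hs
  have h2 : ((∑ t ∈ Finset.range 27, rs (nib a (i + t)) * rs (nib b (27 * t + s)) : ℕ) : ZMod 1000001) =
      ((4 * rs (nib c (k + s)) : ℕ) : ZMod 1000001) := (ZMod.natCast_eq_natCast_iff' _ _ _).2 h1
  push_cast at h2
  simp only [← psi_gs] at h2
  have h3 := nm_row (fun t => nib a (i + t)) (fun t => nib b (27 * t + s)) (nib c (k + s))
  rw [← sub_eq_zero]
  apply eq_zero_of_psi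
  · rw [map_sub, map_sum, map_mul, map_ofNat]
    simp only [map_mul]
    rw [h2, sub_self]
  · exact le_trans (le_add_of_nonneg_right (abs_nonneg _)) h3
  · exact le_trans (le_add_of_nonneg_left (abs_nonneg _)) h3

theorem chkR_spec (a c : ℕ) (rb : List ℕ) (n : ℕ) : ∀ i, chkR a c rb n i = true →
    ∀ r < n, dig c 27 (comb a rb (i + 27 * r)) (i + 27 * r) = true := by
  induction n with
  | zero => intro i _ r hr; exact absurd hr (Nat.not_lt_zero r)
  | succ n ih =>
    intro i h r hr
    rw [chkR, Bool.and_eq_true] at h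
    rcases r with _ | r
    · simpa using h.1
    · have h1 := ih (i + 27) h.2 r (by omega)
      rwa [show i + 27 + 27 * r = i + 27 * (r + 1) by ring] at h1

/-- the matrix of a code -/
def mt (a : ℕ) : Matrix (Fin 27) (Fin 27) GaussianInt := Matrix.of fun i j => gs (nib a (27 * i + j))

/-- the row vector of a code -/
def vt (v : ℕ) : Fin 27 → GaussianInt := fun j => gs (nib v j)

/-- **Soundness** of the check of a product. -/
theorem mul_of_chk {a b c : ℕ} (h : chk a b c = true) : mt a * mt b = (4 : GaussianInt) • mt c := by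
  ext1 i j
  have h1 := chkR_spec a c _ 27 0 h i i.2
  have h2 := row_spec a b c _ _ h1 j j.2
  rw [zero_add] at h2
  rw [Matrix.mul_apply, Matrix.smul_apply, smul_eq_mul]
  unfold mt
  simp only [Matrix.of_apply]
  rw [← h2, Finset.sum_range]

/-- the check of the product of a row vector and a matrix -/
def vchk (v b w : ℕ) : Bool := dig w 27 (comb v (rows b 27 0) 0) 0

/-- **Soundness** of the check of a product with a row vector. -/
theorem vecMul_of_vchk {v b w : ℕ} (h : vchk v b w = true) :
    Matrix.vecMul (vt v) (mt b) = (4 : GaussianInt) • vt w := by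
  funext j
  have h2 := row_spec v b w 0 0 h j j.2
  simp only [zero_add] at h2
  rw [Matrix.vecMul, dotProduct, Pi.smul_apply, smul_eq_mul]
  unfold mt vt
  simp only [Matrix.of_apply]
  rw [← h2, Finset.sum_range]

end Cfsg.Agent.H29.TitsMat
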