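import Cfsg.Agent.H29.TitsMatChk
import Cfsg.Agent.Mrg.Omega.TitsIso.Rel

/-!
# The `27`-dimensional representation of the Tits group: the relations and the commutant

`ZG φ i`, `XG φ`: the elements of `GL 27 K`, for a field `K` with a homomorphism `φ : ℤ[i] →+* K`;

* `titsRel_ZG` : the eight involutions satisfy the relations `TitsRel`;
* `XG_mul` : `XG` acts on them as the element `y 7` of `²F₄(2)`;
* `commutant` : the matrices which commute with the eight involutions are scalar.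
-/

set_option autoImplicit false

namespace Cfsg.Agent.H29.TitsMat

open Cfsg.Agent.Omega.TitsIso Cfsg.Agent.Omega.TitsIso.TitsSideRel

section Shift

variable {M : Type*} [Group M] {Z : ZMod 8 → M} {f : M →* M}

theorem exists_shift (hf : ∀ i, f (Z i) = Z (i + 1)) (k : ZMod 8) : ∃ g : M →* M, ∀ i, g (Z i) = Z (i + k) := by
  have key : ∀ n : ℕ, ∃ g : M →* M, ∀ i, g (Z i) = Z (i + n) := by
    intro n
    induction n with
    | zero => exact ⟨MonoidHom.id M, fun i => by simp⟩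
    | succ n ih =>
      obtain ⟨g, hg⟩ := ih
      refine ⟨f.comp g, fun i => ?_⟩
      rw [MonoidHom.comp_apply, hg, hf, add_assoc]
      push_cast
      rfl
  obtain ⟨g, hg⟩ := key k.val
  refine ⟨g, fun i => ?_⟩
  rw [hg, ZMod.natCast_zmod_val]

theorem map_C {g : M →* M} {k : ZMod 8} (hg : ∀ i, g (Z i) = Z (i + k)) (i : ZMod 8) : g (C Z i) = C Z (i + k) := by
  unfold C
  simp only [map_mul, map_pow, hg]
  rw [show i - 1 + k = i + k - 1 by ring, show i + 2 + k = i + k + 2 by ring, show i + 1 + k = i + k + 1 by ring]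

/-- The relations follow from single instances and the rotation. -/
theorem titsRel_of_shift (hf : ∀ i, f (Z i) = Z (i + 1)) (sq : Z 0 * Z 0 = 1) (c1 : Z 0 * Z 1 = Z 1 * Z 0)
    (c2 : Z 0 * Z 2 = Z 2 * Z 0) (o4 : (Z 0 * Z 3) ^ 4 = 1) (o5 : (Z 0 * Z 4) ^ 5 = 1)
    (r : C Z 1 * Z 4 * (C Z 1)⁻¹ = Z 3 * Z 4) (l : C Z 2 * Z 0 * (C Z 2)⁻¹ = Z 1 * Z 0) : TitsRel Z := by
  refine ⟨fun i => ?_, fun i => ?_, fun i => ?_, fun i => ?_, fun i => ?_, fun i => ?_, fun i => ?_⟩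
  · obtain ⟨g, hg⟩ := exists_shift hf i
    have h := congrArg g sq
    simpa [hg] using h
  · obtain ⟨g, hg⟩ := exists_shift hf i
    have h := congrArg g c1
    rw [map_mul, map_mul, hg, hg, zero_add, add_comm 1 i] at h
    exact h
  · obtain ⟨g, hg⟩ := exists_shift hf i
    have h := congrArg g c2
    rw [map_mul, map_mul, hg, hg, zero_add, add_comm 2 i] at h
    exact h
  · obtain ⟨g, hg⟩ := exists_shift hf i
    have h := congrArg g o4
    rw [map_pow, map_mul, hg, hg, zero_add, add_comm 3 i, map_one] at h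
    exact h
  · obtain ⟨g, hg⟩ := exists_shift hf i
    have h := congrArg g o5
    rw [map_pow, map_mul, hg, hg, zero_add, add_comm 4 i, map_one] at h
    exact h
  · obtain ⟨k, rfl⟩ : ∃ k, i = 1 + k := ⟨i - 1, by ring⟩
    obtain ⟨g, hg⟩ := exists_shift hf k
    have h := congrArg g r
    rw [map_mul, map_mul, map_inv, map_C hg, map_mul, hg, hg] at h
    rw [show 1 + k + 3 = 4 + k by ring, show 1 + k + 2 = 3 + k by ring]
    exact h
  · obtain ⟨k, rfl⟩ : ∃ k, i = 2 + k := ⟨i - 2, by ring⟩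
    obtain ⟨g, hg⟩ := exists_shift hf k
    have h := congrArg g l
    rw [map_mul, map_mul, map_inv, map_C hg, map_mul, hg, hg] at h
    rw [show 2 + k - 2 = 0 + k by ring, show 2 + k - 1 = 1 + k by ring]
    exact h

end Shift

variable {K : Type*} [Field K] [CharZero K] (φ : GaussianInt →+* K)

/-- the matrix over the field -/
noncomputable def GM (a : ℕ) : Matrix (Fin 27) (Fin 27) K := (4 : K)⁻¹ • (mt a).map φ

theorem GM_mul {a b c : ℕ} (h : chk a b c = true) : GM φ a * GM φ b = GM φ c := by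
  unfold GM
  have h1 := congrArg (fun A : Matrix (Fin 27) (Fin 27) GaussianInt => A.map φ) (mul_of_chk h)
  simp only [Matrix.map_mul] at h1
  have h2 : ((4 : GaussianInt) • mt c).map φ = (4 : K) • (mt c).map φ := by
    ext i j
    rw [Matrix.map_apply, Matrix.smul_apply, Matrix.smul_apply, Matrix.map_apply, smul_eq_mul, smul_eq_mul, map_mul,
      map_ofNat]
  rw [h2] at h1
  rw [Matrix.smul_mul, Matrix.mul_smul, h1, smul_smul, smul_smul,
    show (4 : K)⁻¹ * (4 : K)⁻¹ * 4 = (4 : K)⁻¹ by norm_num]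

theorem nib_one : ∀ i j : Fin 27, nib one (27 * i + j) = if i = j then 5 else 0 := by decide +kernel

omit [CharZero K] in
theorem GM_apply (a : ℕ) (i j : Fin 27) : GM φ a i j = (4 : K)⁻¹ * φ (gs (nib a (27 * i + j))) := rfl

theorem GM_one : GM φ one = 1 := by
  ext i j
  rw [GM_apply, nib_one i j, Matrix.one_apply]
  by_cases hij : i = j
  · rw [if_pos hij, if_pos hij]
    have h : gs 5 = 4 := rfl
    rw [h, map_ofNat]
    exact inv_mul_cancel₀ (by norm_num)
  · rw [if_neg hij, if_neg hij]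
    have h : gs 0 = 0 := rfl
    rw [h, map_zero, mul_zero]

/-- a group element -/
noncomputable def un {a b : ℕ} (h : chk a b one = true) : GL (Fin 27) K :=
  ⟨GM φ a, GM φ b, by rw [GM_mul φ h, GM_one], by rw [mul_eq_one_comm, GM_mul φ h, GM_one]⟩

/-- `g` has the code `a` -/
def V (g : GL (Fin 27) K) (a : ℕ) : Prop := (g : Matrix (Fin 27) (Fin 27) K) = GM φ a

variable {φ} in
theorem V.mul {g h : GL (Fin 27) K} {a b c : ℕ} (hg : V φ g a) (hh : V φ h b) (hc : chk a b c = true) :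
    V φ (g * h) c := by
  unfold V at *
  rw [Units.val_mul, hg, hh, GM_mul φ hc]

omit [CharZero K] in
variable {φ} in
theorem V.eq {g h : GL (Fin 27) K} {a : ℕ} (hg : V φ g a) (hh : V φ h a) : g = h := Units.ext (hg.trans hh.symm)

theorem V_one : V φ 1 one := (GM_one φ).symm

theorem zc_sq : ∀ i : ZMod 8, chk (zc i) (zc i) one = true := by
  intro i
  fin_cases i
  exacts [k_z0_z0, k_z1_z1, k_z2_z2, k_z3_z3, k_z4_z4, k_z5_z5, k_z6_z6, k_z7_z7]

/-- the eight involutions -/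
noncomputable def ZG (i : ZMod 8) : GL (Fin 27) K := un φ (zc_sq i)

/-- the rotation -/
noncomputable def RG : GL (Fin 27) K := un φ k_rr_ri

/-- the element `y 7` -/
noncomputable def XG : GL (Fin 27) K := un φ k_xx_xi

theorem vz (i : ZMod 8) : V φ (ZG φ i) (zc i) := rfl
theorem vz0 : V φ (ZG φ 0) z0 := rfl
theorem vz1 : V φ (ZG φ 1) z1 := rfl
theorem vz2 : V φ (ZG φ 2) z2 := rfl
theorem vz3 : V φ (ZG φ 3) z3 := rfl
theorem vz4 : V φ (ZG φ 4) z4 := rfl
theorem vz5 : V φ (ZG φ 5) z5 := rfl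
theorem vz6 : V φ (ZG φ 6) z6 := rfl
theorem vz7 : V φ (ZG φ 7) z7 := rfl
theorem vR : V φ (RG φ) rr := rfl
theorem vX : V φ (XG φ) xx := rfl

theorem R_mul : ∀ i : ZMod 8, RG φ * ZG φ i = ZG φ (i + 1) * RG φ := by
  intro i
  fin_cases i
  · exact ((vR φ).mul (vz0 φ) k_rr_z0).eq ((vz1 φ).mul (vR φ) k_z1_rr)
  · exact ((vR φ).mul (vz1 φ) k_rr_z1).eq ((vz2 φ).mul (vR φ) k_z2_rr)
  · exact ((vR φ).mul (vz2 φ) k_rr_z2).eq ((vz3 φ).mul (vR φ) k_z3_rr)
  · exact ((vR φ).mul (vz3 φ) k_rr_z3).eq ((vz4 φ).mul (vR φ) k_z4_rr)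
  · exact ((vR φ).mul (vz4 φ) k_rr_z4).eq ((vz5 φ).mul (vR φ) k_z5_rr)
  · exact ((vR φ).mul (vz5 φ) k_rr_z5).eq ((vz6 φ).mul (vR φ) k_z6_rr)
  · exact ((vR φ).mul (vz6 φ) k_rr_z6).eq ((vz7 φ).mul (vR φ) k_z7_rr)
  · exact ((vR φ).mul (vz7 φ) k_rr_z7).eq ((vz0 φ).mul (vR φ) k_z0_rr)

theorem conj_R (i : ZMod 8) : (MulAut.conj (RG φ)).toMonoidHom (ZG φ i) = ZG φ (i + 1) := by
  change RG φ * ZG φ i * (RG φ)⁻¹ = ZG φ (i + 1)
  rw [R_mul, mul_inv_cancel_right]

theorem vc1 : V φ (C (ZG φ) 1) c1 := by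
  have h1 : V φ (ZG φ 0 * ZG φ 3 * (ZG φ 0 * ZG φ 3) * (ZG φ 1 * ZG φ 2)) c1 :=
    ((((vz0 φ).mul (vz3 φ) k_z0_z3).mul ((vz0 φ).mul (vz3 φ) k_z0_z3) k_e1_e1)).mul
      ((vz1 φ).mul (vz2 φ) k_z1_z2) k_e2_d12
  have h2 : C (ZG φ) 1 = ZG φ 0 * ZG φ 3 * (ZG φ 0 * ZG φ 3) * (ZG φ 1 * ZG φ 2) := by
    unfold C
    rw [pow_two]
    rfl
  rw [h2]
  exact h1

theorem vc2 : V φ (C (ZG φ) 2) c2 := by
  have h1 : V φ (ZG φ 1 * ZG φ 4 * (ZG φ 1 * ZG φ 4) * (ZG φ 2 * ZG φ 3)) c2 :=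
    ((((vz1 φ).mul (vz4 φ) k_z1_z4).mul ((vz1 φ).mul (vz4 φ) k_z1_z4) k_j1_j1)).mul
      ((vz2 φ).mul (vz3 φ) k_z2_z3) k_j2_d23
  have h2 : C (ZG φ) 2 = ZG φ 1 * ZG φ 4 * (ZG φ 1 * ZG φ 4) * (ZG φ 2 * ZG φ 3) := by
    unfold C
    rw [pow_two]
    rfl
  rw [h2]
  exact h1

theorem vcm : V φ (C (ZG φ) 7) cm := by
  have h1 : V φ (ZG φ 6 * ZG φ 1 * (ZG φ 6 * ZG φ 1) * (ZG φ 7 * ZG φ 0)) cm :=
    ((((vz6 φ).mul (vz1 φ) k_z6_z1).mul ((vz6 φ).mul (vz1 φ) k_z6_z1) k_q1_q1)).mul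
      ((vz7 φ).mul (vz0 φ) k_z7_z0) k_q2_d70
  have h2 : C (ZG φ) 7 = ZG φ 6 * ZG φ 1 * (ZG φ 6 * ZG φ 1) * (ZG φ 7 * ZG φ 0) := by
    unfold C
    rw [pow_two]
    rfl
  rw [h2]
  exact h1

/-- **The relations.** -/
theorem titsRel_ZG : TitsRel (ZG φ) := by
  refine titsRel_of_shift (conj_R φ) ?_ ?_ ?_ ?_ ?_ ?_ ?_
  · exact ((vz0 φ).mul (vz0 φ) k_z0_z0).eq (V_one φ)
  · exact ((vz0 φ).mul (vz1 φ) k_z0_z1).eq ((vz1 φ).mul (vz0 φ) k_z1_z0)
  · exact ((vz0 φ).mul (vz2 φ) k_z0_z2).eq ((vz2 φ).mul (vz0 φ) k_z2_z0)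
  · have e1 := (vz0 φ).mul (vz3 φ) k_z0_z3
    have e2 := e1.mul e1 k_e1_e1
    have h := (e2.mul e2 k_e2_e2).eq (V_one φ)
    rw [← h]
    simp only [pow_succ, pow_zero, one_mul, mul_assoc]
  · have e1 := (vz0 φ).mul (vz4 φ) k_z0_z4
    have e2 := e1.mul e1 k_f1_f1
    have h := ((e2.mul e2 k_f2_f2).mul e1 k_f4_f1).eq (V_one φ)
    rw [← h]
    simp only [pow_succ, pow_zero, one_mul, mul_assoc]
  · rw [mul_inv_eq_iff_eq_mul]
    exact ((vc1 φ).mul (vz4 φ) k_c1_z4).eq (((vz3 φ).mul (vz4 φ) k_z3_z4).mul (vc1 φ) k_d34_c1)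
  · rw [mul_inv_eq_iff_eq_mul]
    exact ((vc2 φ).mul (vz0 φ) k_c2_z0).eq (((vz1 φ).mul (vz0 φ) k_z1_z0).mul (vc2 φ) k_d01_c2)

/-- **The action of `XG`.** -/
theorem XG_mul : ∀ i : ZMod 8, XG φ * ZG φ i = ((c7.getD i.val []).map (ZG φ)).prod * XG φ := by
  intro i
  fin_cases i
  · have a1 := (vz7 φ).mul (vz3 φ) k_z7_z3
    have b1 := (vz3 φ).mul (vz7 φ) k_z3_z7
    have h := ((vX φ).mul (vz0 φ) k_xx_z0).eq (((a1.mul (vz0 φ) k_a1_z0).mul b1 k_a2_b1).mul (vX φ) k_a3_xx)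
    refine h.trans ?_
    change _ = ([ZG φ 7, ZG φ 3, ZG φ 0, ZG φ 3, ZG φ 7]).prod * XG φ
    simp only [List.prod_cons, List.prod_nil, mul_one, mul_assoc]
  · refine (((vX φ).mul (vz1 φ) k_xx_z1).eq ((vz1 φ).mul (vX φ) k_z1_xx)).trans ?_
    change _ = ([ZG φ 1]).prod * XG φ
    rw [List.prod_singleton]
  · refine (((vX φ).mul (vz2 φ) k_xx_z2).eq ((vz2 φ).mul (vX φ) k_z2_xx)).trans ?_
    change _ = ([ZG φ 2]).prod * XG φ
    rw [List.prod_singleton]
  · refine (((vX φ).mul (vz3 φ) k_xx_z3).eq ((vz3 φ).mul (vX φ) k_z3_xx)).trans ?_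
    change _ = ([ZG φ 3]).prod * XG φ
    rw [List.prod_singleton]
  · refine (((vX φ).mul (vz4 φ) k_xx_z4).eq ((vz4 φ).mul (vX φ) k_z4_xx)).trans ?_
    change _ = ([ZG φ 4]).prod * XG φ
    rw [List.prod_singleton]
  · refine (((vX φ).mul (vz5 φ) k_xx_z5).eq ((vz5 φ).mul (vX φ) k_z5_xx)).trans ?_
    change _ = ([ZG φ 5]).prod * XG φ
    rw [List.prod_singleton]
  · have a1 := (vz7 φ).mul (vz3 φ) k_z7_z3
    have b1 := (vz3 φ).mul (vz7 φ) k_z3_z7
    have h := ((vX φ).mul (vz6 φ) k_xx_z6).eq (((b1.mul (vz4 φ) k_b1_z4).mul a1 k_b2_a1).mul (vX φ) k_b3_xx)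
    refine h.trans ?_
    change _ = ([ZG φ 3, ZG φ 7, ZG φ 4, ZG φ 7, ZG φ 3]).prod * XG φ
    simp only [List.prod_cons, List.prod_nil, mul_one, mul_assoc]
  · have b1 := (vz3 φ).mul (vz7 φ) k_z3_z7
    have h := ((vX φ).mul (vz7 φ) k_xx_z7).eq (((b1.mul b1 k_b1_b1).mul (vz3 φ) k_b4_z3).mul (vX φ) k_b5_xx)
    refine h.trans ?_
    change _ = ([ZG φ 3, ZG φ 7, ZG φ 3, ZG φ 7, ZG φ 3]).prod * XG φ
    simp only [List.prod_cons, List.prod_nil, mul_one, mul_assoc]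

/-! ### the commutant -/

theorem col_neg : ∀ j : Fin 27, j = 0 ∨ ∃ k ∈ ([0, 1, 2] : List (ZMod 8)),
    (∀ i : Fin 27, nib (zc k) (27 * i + j) = if i = j then 7 else 0) := by decide +kernel

theorem row_one : ∀ k ∈ ([0, 1, 2] : List (ZMod 8)), ∀ j : Fin 27,
    nib (zc k) (27 * (0 : Fin 27) + j) = if j = 0 then 5 else 0 := by decide +kernel

theorem first_row {D : Matrix (Fin 27) (Fin 27) K} (hD : ∀ i, D * GM φ (zc i) = GM φ (zc i) * D) (j : Fin 27)
    (hj : j ≠ 0) : D 0 j = 0 := by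
  rcases col_neg j with h | ⟨k, hk, h⟩
  · exact absurd h hj
  have h1 := congrFun (congrFun (hD k) 0) j
  rw [Matrix.mul_apply, Matrix.mul_apply] at h1
  have h2 : ∑ t, D 0 t * GM φ (zc k) t j = - D 0 j := by
    rw [Finset.sum_eq_single j]
    · rw [GM_apply, h j, if_pos rfl]
      have : gs 7 = -4 := rfl
      rw [this, map_neg, map_ofNat]
      ring
    · intro t _ ht
      rw [GM_apply, h t, if_neg ht]
      have : gs 0 = 0 := rfl
      rw [this, map_zero]
      ring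
    · exact fun h => absurd (Finset.mem_univ _) h
  have h3 : ∑ t, GM φ (zc k) 0 t * D t j = D 0 j := by
    rw [Finset.sum_eq_single 0]
    · rw [GM_apply, row_one k hk 0, if_pos rfl]
      have : gs 5 = 4 := rfl
      rw [this, map_ofNat]
      field_simp
    · intro t _ ht
      rw [GM_apply, row_one k hk t, if_neg ht]
      have : gs 0 = 0 := rfl
      rw [this, map_zero]
      ring
    · exact fun h => absurd (Finset.mem_univ _) h
  rw [h2, h3] at h1
  exact self_eq_neg.1 h1.symm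

/-- the vector over the field -/
noncomputable def GV (v : ℕ) : Fin 27 → K := fun j => φ (vt v j)

theorem vecMul_GM {v a w : ℕ} (h : vchk v a w = true) : Matrix.vecMul (GV φ v) (GM φ a) = GV φ w := by
  have h1 := vecMul_of_vchk h
  funext j
  have h2 := congrArg φ (congrFun h1 j)
  rw [Matrix.vecMul, dotProduct, map_sum, Pi.smul_apply, smul_eq_mul, map_mul, map_ofNat] at h2
  simp only [map_mul] at h2
  unfold GV GM
  rw [Matrix.vecMul, dotProduct]
  simp only [Matrix.smul_apply, Matrix.map_apply, smul_eq_mul]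
  have h3 : ∑ t, φ (vt v t) * ((4 : K)⁻¹ * φ (mt a t j)) = (4 : K)⁻¹ * ∑ t, φ (vt v t) * φ (mt a t j) := by
    rw [Finset.mul_sum]
    exact Finset.sum_congr rfl fun t _ => by ring
  rw [h3, h2, ← mul_assoc, inv_mul_cancel₀ (by norm_num), one_mul]

/-- the walk is correct -/
def walkOk : ℕ → List (ZMod 8 × ℕ) → Bool
  | _, [] => true
  | v, p :: l => vchk v (zc p.1) p.2 && walkOk p.2 l

theorem walk_ok : walkOk 5 walk = true := by decide +kernel

theorem walk_spec {D : Matrix (Fin 27) (Fin 27) K} (hD : ∀ i, D * GM φ (zc i) = GM φ (zc i) * D) (c : K)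
    (l : List (ZMod 8 × ℕ)) : ∀ v, Matrix.vecMul (GV φ v) D = c • GV φ v → walkOk v l = true →
    ∀ p ∈ l, Matrix.vecMul (GV φ p.2) D = c • GV φ p.2 := by
  induction l with
  | nil => intro v _ _ p hp; exact absurd hp List.not_mem_nil
  | cons q l ih =>
    intro v hv h p hp
    rw [walkOk, Bool.and_eq_true] at h
    have h1 : Matrix.vecMul (GV φ q.2) D = c • GV φ q.2 := by
      rw [← vecMul_GM φ h.1, Matrix.vecMul_vecMul, ← hD, ← Matrix.vecMul_vecMul, hv, Matrix.smul_vecMul]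
    rcases List.mem_cons.1 hp with rfl | hp
    · exact h1
    · exact ih q.2 h1 h.2 p hp

theorem targets : ∀ j : Fin 27, j = 0 ∨ (unt j) <<< (4 * (j : ℕ)) ∈ walk.map Prod.snd := by decide +kernel

theorem targets_nib : ∀ j k : Fin 27, nib ((unt j) <<< (4 * (j : ℕ))) k = if k = j then unt j else 0 := by
  decide +kernel

theorem unt_ne : ∀ j : Fin 27, gs (unt j) ≠ 0 := by decide +kernel

theorem norm_ne {z : GaussianInt} (hz : z ≠ 0) : φ z ≠ 0 := by
  intro h
  have h1 : φ (z * star z) = 0 := by rw [map_mul, h, zero_mul]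
  have h2 : z * star z = ((z.norm : ℤ) : GaussianInt) := (Zsqrtd.norm_eq_mul_conj z).symm
  rw [h2, map_intCast, Int.cast_eq_zero] at h1
  exact hz (GaussianInt.norm_eq_zero.1 h1)

/-- **The commutant** of the eight involutions is scalar. -/
theorem commutant {D : Matrix (Fin 27) (Fin 27) K} (hD : ∀ i, D * GM φ (zc i) = GM φ (zc i) * D) :
    ∃ c : K, D = c • (1 : Matrix (Fin 27) (Fin 27) K) := by
  refine ⟨D 0 0, ?_⟩
  have key : ∀ j : Fin 27, ∀ k, D j k = if j = k then D 0 0 else 0 := by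
    have h0 : ∀ k, D 0 k = if (0 : Fin 27) = k then D 0 0 else 0 := by
      intro k
      split
      · rename_i h; rw [← h]
      · rename_i h; exact first_row φ hD k (Ne.symm h)
    have h5 : GV φ 5 = fun j => if j = 0 then (4 : K) else 0 := by
      have h : ∀ j : Fin 27, nib 5 j = if j = 0 then 5 else 0 := by decide
      funext j
      unfold GV vt
      rw [h]
      split
      · exact map_ofNat φ 4
      · exact map_zero φ
    have hs : Matrix.vecMul (GV φ 5) D = D 0 0 • GV φ 5 := by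
      funext k
      rw [h5, Matrix.vecMul, dotProduct, Finset.sum_eq_single 0, if_pos rfl, h0, Pi.smul_apply, smul_eq_mul]
      · by_cases hk : k = 0
        · rw [if_pos hk, if_pos hk.symm, mul_comm]
        · rw [if_neg hk, if_neg (Ne.symm hk), mul_zero, mul_zero]
      · intro t _ ht
        rw [if_neg ht, zero_mul]
      · exact fun h => absurd (Finset.mem_univ _) h
    intro j k
    rcases targets j with rfl | hj
    · exact h0 k
    rw [List.mem_map] at hj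
    obtain ⟨p, hp, hpj⟩ := hj
    have h1 := walk_spec φ hD (D 0 0) walk 5 hs walk_ok p hp
    rw [hpj] at h1
    have h2 : GV φ ((unt j) <<< (4 * (j : ℕ))) = fun k => if k = j then φ (gs (unt j)) else 0 := by
      funext k
      unfold GV vt
      rw [targets_nib]
      split
      · rfl
      · exact map_zero φ
    rw [h2] at h1
    have h3 := congrFun h1 k
    rw [Matrix.vecMul, dotProduct, Finset.sum_eq_single j, if_pos rfl, Pi.smul_apply, smul_eq_mul] at h3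
    · have hne := norm_ne φ (unt_ne j)
      by_cases hk : k = j
      · rw [if_pos hk.symm, ← mul_right_inj' hne, h3, if_pos hk, mul_comm]
      · rw [if_neg hk, mul_zero] at h3
        rw [if_neg (Ne.symm hk)]
        exact (mul_eq_zero.1 h3).resolve_left hne
    · intro t _ ht
      rw [if_neg ht, zero_mul]
    · exact fun h => absurd (Finset.mem_univ _) h
  ext j k
  rw [key, Matrix.smul_apply, Matrix.one_apply, smul_eq_mul]
  split <;> simp

end Cfsg.Agent.H29.TitsMat
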